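import Cfsg.Agent.Lib.ChevBN.Instance

/-!
# The order of the diagonal subgroup

`H` is the image of `(Fˣ)^l` under `c ↦ diag (∏ᵢ cᵢ ^ ⟨s, αᵢ⟩)`; its kernel is read off a Smith normal form of
the Cartan matrix (`TorusOK`, generated certificates). Main: `card_diagonal`.
-/

set_option autoImplicit false

namespace Cfsg.Agent.ChevOrder

open Cfsg.Lie Cfsg.Lie.ChevalleyDatum Cfsg.Agent.Chev Cfsg.Agent.ChevBN

/-- A square matrix read off a list of rows. -/
def toMat (n : ℕ) (L : List (List ℤ)) : Matrix (Fin n) (Fin n) ℤ :=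
  Matrix.of fun i j => (L.getD i.val []).getD j.val 0

/-- The Cartan matrix of a datum. -/
def cartanMat (D : ChevalleyDatum) : Matrix (Fin D.rank) (Fin D.rank) ℤ :=
  Matrix.of fun j i => D.cartan i.val (D.simple j.val)

/-- Smith normal form certificate for the Cartan matrix. -/
def TorusOK (D : ChevalleyDatum) (P Pi Q Qi : List (List ℤ)) (e : List ℕ) : Bool :=
  decide (toMat D.rank P * toMat D.rank Pi = 1) && decide (toMat D.rank Q * toMat D.rank Qi = 1) &&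
    decide (toMat D.rank P * cartanMat D * toMat D.rank Q = Matrix.diagonal fun i => (e.getD i.val 0 : ℤ))

theorem zpow_sum' {G ι : Type*} [CommGroup G] (u : G) (f : ι → ℤ) (s : Finset ι) :
    u ^ (∑ i ∈ s, f i) = ∏ i ∈ s, u ^ f i := by
  classical
  induction s using Finset.induction with
  | empty => simp
  | insert a s ha ih => rw [Finset.sum_insert ha, Finset.prod_insert ha, zpow_add, ih]

section Act

variable {G : Type*} [CommGroup G] {n : ℕ}

/-- The action of an integer matrix on tuples. -/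
def act (A : Matrix (Fin n) (Fin n) ℤ) : (Fin n → G) →* (Fin n → G) where
  toFun c j := ∏ i, c i ^ A j i
  map_one' := by ext j; simp
  map_mul' c d := by ext j; simp [mul_zpow, Finset.prod_mul_distrib]

theorem act_apply (A : Matrix (Fin n) (Fin n) ℤ) (c : Fin n → G) (j : Fin n) :
    act A c j = ∏ i, c i ^ A j i := rfl

theorem act_mul (A B : Matrix (Fin n) (Fin n) ℤ) (c : Fin n → G) : act (A * B) c = act A (act B c) := by
  ext j
  simp only [act_apply, Matrix.mul_apply, ← Finset.prod_zpow, ← zpow_mul]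
  rw [Finset.prod_comm]
  refine Finset.prod_congr rfl fun i _ => ?_
  rw [zpow_sum']
  exact Finset.prod_congr rfl fun k _ => by rw [mul_comm]

theorem act_diagonal (e : Fin n → ℤ) (c : Fin n → G) (j : Fin n) :
    act (Matrix.diagonal e) c j = c j ^ e j := by
  rw [act_apply, Finset.prod_eq_single j]
  · simp
  · intro i _ hi; simp [Matrix.diagonal_apply_ne' _ hi]
  · simp

theorem act_one (c : Fin n → G) : act 1 c = c := by
  ext j; rw [← Matrix.diagonal_one, act_diagonal, zpow_one]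

theorem card_ker_act [IsCyclic G] [Finite G] {A P Pi Q Qi : Matrix (Fin n) (Fin n) ℤ} {e : Fin n → ℕ}
    (hP : P * Pi = 1) (hQ : Q * Qi = 1) (h : P * A * Q = Matrix.diagonal fun i => (e i : ℤ)) :
    Nat.card (act (G := G) A).ker = ∏ i, (Nat.card G).gcd (e i) := by
  have hPinj : Function.Injective (act (G := G) P) := fun x y hxy => by
    have := congrArg (act Pi) hxy
    rwa [← act_mul, ← act_mul, mul_eq_one_comm.1 hP, act_one, act_one] at this
  have hiff : ∀ y : Fin n → G, act A (act Q y) = 1 ↔ ∀ j, y j ∈ (powMonoidHom (e j) : G →* G).ker := by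
    intro y
    rw [← hPinj.eq_iff, map_one, ← act_mul, ← act_mul, h, funext_iff]
    refine forall_congr' fun j => ?_
    rw [act_diagonal, zpow_natCast, MonoidHom.mem_ker, powMonoidHom_apply]
    rfl
  let E : {y : Fin n → G // ∀ j, y j ∈ (powMonoidHom (e j) : G →* G).ker} ≃ (act (G := G) A).ker :=
    { toFun := fun y => ⟨act Q y.1, (hiff y.1).2 y.2⟩
      invFun := fun c => ⟨act Qi c.1, (hiff _).1 (by rw [← act_mul Q, hQ, act_one]; exact c.2)⟩
      left_inv := fun y => Subtype.ext (by simp only; rw [← act_mul, mul_eq_one_comm.1 hQ, act_one])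
      right_inv := fun c => Subtype.ext (by simp only; rw [← act_mul, hQ, act_one]) }
  rw [← Nat.card_congr E, Nat.card_congr Equiv.subtypePiEquivPi, Nat.card_pi]
  exact Finset.prod_congr rfl fun i _ => IsCyclic.card_powMonoidHom_ker G (e i)

end Act

variable {D : ChevalleyDatum} {F : Type*} [Field F]

/-- The character of a tuple at a root. -/
def chi (c : Fin D.rank → Fˣ) (s : ℕ) : Fˣ := ∏ i : Fin D.rank, c i ^ D.cartan i.val s

theorem chi_mul (c d : Fin D.rank → Fˣ) (s : ℕ) : chi (c * d) s = chi c s * chi d s := by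
  simp [chi, mul_zpow, Finset.prod_mul_distrib]

theorem dg_mul (χ ψ : ℕ → Fˣ) : (dg χ : Matrix D.Idx D.Idx F) * dg ψ = dg fun s => χ s * ψ s := by
  rw [dg, dg, dg, Matrix.diagonal_mul_diagonal]
  congr 1
  ext a
  rcases a with i | q <;> simp

theorem dg_one : (dg fun _ => (1 : Fˣ) : Matrix D.Idx D.Idx F) = 1 := by
  rw [dg, ← Matrix.diagonal_one]
  congr 1
  ext a
  rcases a with i | q <;> simp

theorem chi_one (s : ℕ) : chi (1 : Fin D.rank → Fˣ) s = 1 := by simp [chi]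

/-- The torus map. -/
def torusHom (D : ChevalleyDatum) (F : Type*) [Field F] : (Fin D.rank → Fˣ) →* GL D.Idx F where
  toFun c := ⟨dg (chi c), dg (chi c⁻¹),
    by rw [dg_mul, ← dg_one]; simp only [← chi_mul, mul_inv_cancel, chi_one],
    by rw [dg_mul, ← dg_one]; simp only [← chi_mul, inv_mul_cancel, chi_one]⟩
  map_one' := Units.ext (by simp only [chi_one, dg_one, Units.val_one, Units.val_mk, funext chi_one])
  map_mul' c d := Units.ext (by
    show dg (chi (c * d)) = dg (chi c) * dg (chi d)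
    rw [dg_mul]
    simp only [← chi_mul])

theorem coe_torusHom (c : Fin D.rank → Fˣ) :
    (torusHom D F c : Matrix D.Idx D.Idx F) = dg (chi c) := rfl

theorem torusHom_range (hD : Good D) : (torusHom D F).range = D.diagonalSubgroup F := by
  refine le_antisymm ?_ ((Subgroup.closure_le _).2 ?_)
  · rintro _ ⟨c, rfl⟩
    have key : c ∈ (D.diagonalSubgroup F).comap (torusHom D F) :=
      Subgroup.pi_mem_of_mulSingle_mem c fun i => ?_
    · exact key
    refine Subgroup.subset_closure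
      ⟨D.simple i.val, (c i : F), hD.simple_lt i.val i.isLt, (c i).ne_zero, ?_⟩
    rw [coe_torusHom, hMat_eq_diag hD (hD.simple_lt i.val i.isLt) (c i).ne_zero]
    congr 1
    ext1 s
    rw [pairing_simple hD i.isLt, chi, Finset.prod_eq_single i]
    · simp
    · intro j _ hj; simp [Pi.mulSingle_eq_of_ne hj]
    · simp
  · rintro g ⟨r, t, hr, ht, hg⟩
    refine ⟨fun i => Units.mk0 t ht ^ (D.coroot.getD r #[]).getD i.val 0, Units.ext ?_⟩
    rw [coe_torusHom, hg, hMat_eq_diag hD hr ht]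
    congr 1
    ext1 s
    rw [chi, Chev.pairing_eq_sum]
    simp only [← zpow_mul]
    rw [zpow_sum']

theorem torusHom_ker (hD : Good D) {M : List (List ℤ)} {d : ℤ} (hR : Roots D M d) :
    (torusHom D F).ker = (act (G := Fˣ) (cartanMat D)).ker := by
  ext c
  rw [MonoidHom.mem_ker, MonoidHom.mem_ker, funext_iff]
  constructor
  · intro h j
    have h1 := congrArg (fun g : GL D.Idx F => (g : Matrix D.Idx D.Idx F)
      (Sum.inr ⟨_, hD.simple_lt j.val j.isLt⟩) (Sum.inr ⟨_, hD.simple_lt j.val j.isLt⟩)) h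
    simp only [coe_torusHom, dg, Matrix.diagonal_apply_eq, Sum.elim_inr, Units.val_one,
      Matrix.one_apply_eq, Units.val_eq_one] at h1
    exact h1
  · intro h
    have hneg : ∀ q < D.nroots, chi c (D.neg q) = (chi c q)⁻¹ := by
      intro q hq
      simp only [chi, ← Finset.prod_inv_distrib]
      exact Finset.prod_congr rfl fun i _ => by rw [hD.cartan_neg q hq i.val i.isLt, zpow_neg]
    have hpos : ∀ q < D.nroots, D.IsPosRoot q → q < D.nroots ∧ chi c q = 1 := fun q hq hp => by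
      refine hR.pos_induction hD (P := fun q => q < D.nroots ∧ chi c q = 1)
        (fun i hi => ⟨hD.simple_lt i hi, ?_⟩) (fun i hi p hp' e => ?_) hq hp
      · exact h ⟨i, hi⟩
      · refine ⟨ChevSt.refl_lt hD (hD.simple_lt i hi) hp', ?_⟩
        calc chi c (wN D i p)
            = ∏ k : Fin D.rank, c k ^ D.cartan k.val p *
              ((c k ^ D.cartan k.val (D.simple i)) ^ (-D.cartan i p)) := by
              refine Finset.prod_congr rfl fun k _ => ?_
              have := (ChevSt.isLin_cartan hD k.isLt).refl hD (hD.simple_lt i hi) hp'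
              rw [wN, this, pairing_simple hD hi, ← zpow_mul, ← zpow_add]
              congr 1
              ring
          _ = chi c p * (act (cartanMat D) c ⟨i, hi⟩) ^ (-D.cartan i p) := by
              rw [Finset.prod_mul_distrib, Finset.prod_zpow]
              rfl
          _ = 1 := by rw [e.2, h ⟨i, hi⟩, Pi.one_apply, one_zpow, one_mul]
    apply Units.ext
    rw [coe_torusHom, Units.val_one, ← dg_one, dg, dg]
    congr 1
    ext a
    rcases a with i | ⟨q, hq⟩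
    · rfl
    · show ((chi c q : Fˣ) : F) = ((1 : Fˣ) : F)
      by_cases hp : D.IsPosRoot q
      · rw [(hpos q hq hp).2]
      · have := (hpos _ (hD.neg_lt q hq) ((pos_or_neg hD hq).2 hp)).2
        rw [hneg q hq, inv_eq_one] at this
        rw [this]

/-- `d * |H| = (q - 1) ^ l` with `d` the product of `gcd(q - 1, eᵢ)`. -/
theorem card_diagonal [Fintype F] (hD : Good D) {M : List (List ℤ)} {d : ℤ} (hR : Roots D M d)
    {P Pi Q Qi : List (List ℤ)} {e : List ℕ} (h : TorusOK D P Pi Q Qi e = true) :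
    (∏ i : Fin D.rank, (Fintype.card F - 1).gcd (e.getD i.val 0)) * Nat.card (D.diagonalSubgroup F) =
      (Fintype.card F - 1) ^ D.rank := by
  simp only [TorusOK, Bool.and_eq_true, decide_eq_true_eq] at h
  obtain ⟨⟨h1, h2⟩, h3⟩ := h
  have hc : Nat.card Fˣ = Fintype.card F - 1 := by
    classical
    rw [Nat.card_eq_fintype_card, Fintype.card_units]
  have hk := card_ker_act (G := Fˣ) h1 h2 h3
  rw [hc, ← torusHom_ker hD hR] at hk
  rw [← hk, ← torusHom_range hD, ← Nat.card_congr (QuotientGroup.quotientKerEquivRange (torusHom D F)).toEquiv,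
    mul_comm, ← Subgroup.card_eq_card_quotient_mul_card_subgroup, Nat.card_pi]
  simp [hc]

theorem torus_G2 : TorusOK chevG2 [[-1, 0], [2, 1]]
    [[-1, 0], [2, 1]]
    [[0, 1], [1, 2]]
    [[-2, 1], [1, 0]]
    [1, 1] = true := by decide +kernel

theorem torus_B2 : TorusOK chevB2 [[-1, 0], [2, 1]]
    [[-1, 0], [2, 1]]
    [[0, 1], [1, 2]]
    [[-2, 1], [1, 0]]
    [1, 2] = true := by decide +kernel

theorem torus_D4 : TorusOK chevD4 [[-1, 0, 0, 0], [-2, -1, 0, 0], [-3, -2, -1, 0], [2, 2, 1, 1]]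
    [[-1, 0, 0, 0], [2, -1, 0, 0], [-1, 2, -1, 0], [-1, 0, 1, 1]]
    [[0, 0, 0, 1], [1, 0, 0, 2], [0, 1, -1, 1], [0, 0, 1, 2]]
    [[-2, 1, 0, 0], [-3, 0, 1, 1], [-2, 0, 0, 1], [1, 0, 0, 0]]
    [1, 1, 2, 2] = true := by decide +kernel

theorem torus_F4 : TorusOK chevF4 [[-1, 0, 0, 0], [-2, -1, 0, 0], [-2, -2, -1, 0], [2, 3, 2, 1]]
    [[-1, 0, 0, 0], [2, -1, 0, 0], [-2, 2, -1, 0], [0, -1, 2, 1]]
    [[0, 0, 0, 1], [1, 0, 0, 2], [0, 1, 0, 3], [0, 0, 1, 2]]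
    [[-2, 1, 0, 0], [-3, 0, 1, 0], [-2, 0, 0, 1], [1, 0, 0, 0]]
    [1, 1, 1, 1] = true := by decide +kernel

theorem torus_E6 : TorusOK chevE6 [[-1, 0, 0, 0, 0, 0], [0, -1, 0, 0, 0, 0], [1, -2, 0, -1, 0, 0], [2, -3, 0, -2, -1, 0], [-2, 1, -1, 0, 0, 0], [-5, 0, -4, -3, -2, -1]]
    [[-1, 0, 0, 0, 0, 0], [0, -1, 0, 0, 0, 0], [2, -1, 0, 0, -1, 0], [-1, 2, -1, 0, 0, 0], [0, -1, 2, -1, 0, 0], [0, 0, -1, 2, 4, -1]]
    [[0, 0, 0, 0, 1, -2], [0, 0, 0, 0, 2, -3], [1, 0, 0, 0, 2, -4], [0, 1, 0, 0, 4, -6], [0, 0, 1, 0, 4, -5], [0, 0, 0, 1, 4, -4]]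
    [[-2, 0, 1, 0, 0, 0], [0, -2, 0, 1, 0, 0], [2, -3, 0, 0, 1, 0], [4, -4, 0, 0, 0, 1], [-3, 2, 0, 0, 0, 0], [-2, 1, 0, 0, 0, 0]]
    [1, 1, 1, 1, 1, 3] = true := by decide +kernel

theorem torus_E7 : TorusOK chevE7 [[-1, 0, 0, 0, 0, 0, 0], [0, -1, 0, 0, 0, 0, 0], [1, -2, 0, -1, 0, 0, 0], [2, -3, 0, -2, -1, 0, 0], [3, -4, 0, -3, -2, -1, 0], [-2, 1, -1, 0, 0, 0, 0], [-4, -1, -4, -4, -3, -2, -1]]
    [[-1, 0, 0, 0, 0, 0, 0], [0, -1, 0, 0, 0, 0, 0], [2, -1, 0, 0, 0, -1, 0], [-1, 2, -1, 0, 0, 0, 0], [0, -1, 2, -1, 0, 0, 0], [0, 0, -1, 2, -1, 0, 0], [0, 0, 0, -1, 2, 4, -1]]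
    [[0, 0, 0, 0, 0, 1, -2], [0, 0, 0, 0, 0, 2, -3], [1, 0, 0, 0, 0, 2, -4], [0, 1, 0, 0, 0, 4, -6], [0, 0, 1, 0, 0, 4, -5], [0, 0, 0, 1, 0, 4, -4], [0, 0, 0, 0, 1, 4, -3]]
    [[-2, 0, 1, 0, 0, 0, 0], [0, -2, 0, 1, 0, 0, 0], [2, -3, 0, 0, 1, 0, 0], [4, -4, 0, 0, 0, 1, 0], [6, -5, 0, 0, 0, 0, 1], [-3, 2, 0, 0, 0, 0, 0], [-2, 1, 0, 0, 0, 0, 0]]
    [1, 1, 1, 1, 1, 1, 2] = true := by decide +kernel

theorem torus_E8 : TorusOK chevE8 [[-1, 0, 0, 0, 0, 0, 0, 0], [0, -1, 0, 0, 0, 0, 0, 0], [1, -2, 0, -1, 0, 0, 0, 0], [2, -3, 0, -2, -1, 0, 0, 0], [3, -4, 0, -3, -2, -1, 0, 0], [4, -5, 0, -4, -3, -2, -1, 0], [-2, 1, -1, 0, 0, 0, 0, 0], [-3, -2, -4, -5, -4, -3, -2, -1]]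
    [[-1, 0, 0, 0, 0, 0, 0, 0], [0, -1, 0, 0, 0, 0, 0, 0], [2, -1, 0, 0, 0, 0, -1, 0], [-1, 2, -1, 0, 0, 0, 0, 0], [0, -1, 2, -1, 0, 0, 0, 0], [0, 0, -1, 2, -1, 0, 0, 0], [0, 0, 0, -1, 2, -1, 0, 0], [0, 0, 0, 0, -1, 2, 4, -1]]
    [[0, 0, 0, 0, 0, 0, 1, -2], [0, 0, 0, 0, 0, 0, 2, -3], [1, 0, 0, 0, 0, 0, 2, -4], [0, 1, 0, 0, 0, 0, 4, -6], [0, 0, 1, 0, 0, 0, 4, -5], [0, 0, 0, 1, 0, 0, 4, -4], [0, 0, 0, 0, 1, 0, 4, -3], [0, 0, 0, 0, 0, 1, 4, -2]]
    [[-2, 0, 1, 0, 0, 0, 0, 0], [0, -2, 0, 1, 0, 0, 0, 0], [2, -3, 0, 0, 1, 0, 0, 0], [4, -4, 0, 0, 0, 1, 0, 0], [6, -5, 0, 0, 0, 0, 1, 0], [8, -6, 0, 0, 0, 0, 0, 1], [-3, 2, 0, 0, 0, 0, 0, 0], [-2, 1, 0, 0, 0, 0, 0, 0]]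
    [1, 1, 1, 1, 1, 1, 1, 1] = true := by decide +kernel

end Cfsg.Agent.ChevOrder
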