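import Cfsg.Agent.Lib.ChevBN.Instance
import Cfsg.Agent.Lib.ChevSt.System

/-!
# The order of `U`

`card_genBy` : a commutator-closed set of positive roots spans a subgroup of order `q ^ #T`;
`card_posUnipotent` : `|U| = q ^ (nroots / 2)`.
-/

set_option autoImplicit false

namespace Cfsg.Agent.ChevOrder

open Cfsg.Lie Cfsg.Lie.ChevalleyDatum Cfsg.Agent.Chev Cfsg.Agent.ChevSt Cfsg.Agent.ChevSt.Sys Cfsg.Agent.ChevBN Matrix

variable {D : ChevalleyDatum} {F : Type*} [Field F]

theorem card_genBy {E : Type*} [Group E] (S : Sys D F E) (hD : Good D) {f : ℕ → ℤ} (hf : IsLin D f) :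
    ∀ (m : ℕ) (T : Finset ℕ), T.card = m → (∀ q ∈ T, q < D.nroots ∧ 0 < f q) →
      (∀ r ∈ T, ∀ s ∈ T, s ≠ r → ∀ τ ∈ D.commTerms r s, τ.1 ∈ T) →
      Nat.card (S.genBy (T : Set ℕ)) = Nat.card F ^ m := by
  intro m
  induction m with
  | zero =>
    intro T hT _ _
    rw [Finset.card_eq_zero] at hT
    subst hT
    simp [Sys.genBy]
  | succ m ih =>
    intro T hT hpos hclosed
    obtain ⟨k, hk, hmin⟩ := T.exists_min_image f (Finset.card_pos.mp (by omega))
    set T' := T.erase k with hT'
    obtain ⟨hkn, hkpos⟩ := hpos k hk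
    have hgt : ∀ r ∈ T, ∀ s ∈ T, s ≠ r → ∀ τ ∈ D.commTerms r s, τ.1 ∈ T' := by
      intro r hr s hs hne τ hτ
      refine Finset.mem_erase.mpr ⟨?_, hclosed r hr s hs hne τ hτ⟩
      intro hτk
      have h₂ : s ≠ D.neg r := by
        rintro rfl
        have := (hpos _ hs).2
        rw [hf.neg r (hpos r hr).1] at this
        have := (hpos r hr).2
        omega
      obtain ⟨-, h4, h5, h6⟩ := hf.commTerms hD (hpos r hr).1 (hpos s hs).1 hne h₂ hτ
      rw [hτk] at h6
      have := hmin r hr
      have := (hpos r hr).2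
      have := (hpos s hs).2
      have e1 : f r ≤ (τ.2.2.1 : ℤ) * f r := le_mul_of_one_le_left (by omega) (by exact_mod_cast h4)
      have e2 : f s ≤ (τ.2.2.2 : ℤ) * f s := le_mul_of_one_le_left (by omega) (by exact_mod_cast h5)
      omega
    have hN : ∀ t : F, S.x k t ∈ Subgroup.normalizer (S.genBy (T' : Set ℕ) : Set E) := by
      intro t
      refine S.x_mem_normalizer_genBy hkn (fun s hs => (hpos s (Finset.mem_of_mem_erase hs)).1) (fun s hs => ?_)
        (fun s hs τ hτ => hgt k hk s (Finset.mem_of_mem_erase hs) (Finset.ne_of_mem_erase hs) τ hτ) t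
      refine ⟨Finset.ne_of_mem_erase hs, ?_⟩
      rintro rfl
      have := (hpos _ (Finset.mem_of_mem_erase hs)).2
      rw [hf.neg k hkn] at this
      omega
    have hT'T : S.genBy (T' : Set ℕ) ≤ S.genBy (T : Set ℕ) :=
      Subgroup.closure_mono fun g ⟨q, hq, u, e⟩ => ⟨q, Finset.mem_of_mem_erase hq, u, e⟩
    let Φ : F × S.genBy (T' : Set ℕ) → S.genBy (T : Set ℕ) :=
      fun p => ⟨S.x k p.1 * p.2.1, mul_mem (S.x_mem_genBy hk p.1) (hT'T p.2.2)⟩
    have hsurj : Function.Surjective Φ := by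
      rintro ⟨g, hg⟩
      suffices h : ∃ t, ∃ g' ∈ S.genBy (T' : Set ℕ), g = S.x k t * g' by
        obtain ⟨t, g', hg', e⟩ := h
        exact ⟨(t, ⟨g', hg'⟩), Subtype.ext e.symm⟩
      have gen : ∀ q ∈ (T : Set ℕ), ∀ u : F, ∃ t, ∃ g' ∈ S.genBy (T' : Set ℕ), S.x q u = S.x k t * g' := by
        intro q hq u
        by_cases hqk : q = k
        · subst hqk; exact ⟨u, 1, one_mem _, by rw [mul_one]⟩
        · exact ⟨0, S.x q u, S.x_mem_genBy (Finset.mem_erase.mpr ⟨hqk, hq⟩) u, by rw [S.x_zero, one_mul]⟩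
      induction hg using Subgroup.closure_induction with
      | mem g hg => obtain ⟨q, hq, u, rfl⟩ := hg; exact gen q hq u
      | one => exact ⟨0, 1, one_mem _, by rw [S.x_zero, one_mul]⟩
      | mul a b _ _ ha hb =>
        obtain ⟨t, a', ha', rfl⟩ := ha
        obtain ⟨u, b', hb', rfl⟩ := hb
        refine ⟨t + u, ((S.x k u)⁻¹ * a' * S.x k u) * b',
          mul_mem ((Subgroup.mem_normalizer_iff''.mp (hN u) a').mp ha') hb', ?_⟩
        rw [S.add]; group
      | inv a _ ha =>
        obtain ⟨t, a', ha', rfl⟩ := ha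
        refine ⟨-t, S.x k t * a'⁻¹ * (S.x k t)⁻¹, (Subgroup.mem_normalizer_iff.mp (hN t) _).mp (inv_mem ha'), ?_⟩
        rw [S.x_neg]; group
    have hinj : Function.Injective Φ := by
      rintro ⟨t₁, a, ha⟩ ⟨t₂, b, hb⟩ e
      have e' : S.x k t₁ * a = S.x k t₂ * b := congrArg Subtype.val e
      have e'' : S.x k (t₁ - t₂) * a * b⁻¹ = 1 := by
        rw [sub_eq_neg_add, S.add, S.x_neg, mul_assoc, mul_assoc, ← mul_assoc (S.x k t₁), e']
        group
      obtain ⟨g', hg', hg'eq⟩ : ∃ g' ∈ S.genBy (T' : Set ℕ), g' = a * b⁻¹ := ⟨_, mul_mem ha (inv_mem hb), rfl⟩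
      rw [mul_assoc, ← hg'eq] at e''
      have hgh : S.th (S.x k (t₁ - t₂) * g') = 1 := by rw [e'', map_one]
      obtain ⟨t, ht'⟩ : ∃ t, t = t₁ - t₂ := ⟨_, rfl⟩
      rw [← ht'] at hgh
      have hn := hD.neg_lt k hkn
      set P : E → Prop := fun g =>
        ((S.th g : Matrix D.Idx D.Idx F) *ᵥ ev D F (D.neg k) - ev D F (D.neg k) ∈ above D F f (-f k)) ∧
          ∀ v ∈ above D F f (-f k), (S.th g : Matrix D.Idx D.Idx F) *ᵥ v ∈ above D F f (-f k) with hP
      have hPall : ∀ a ∈ S.genBy (T' : Set ℕ), P a := by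
        intro a ha'
        induction ha' using Subgroup.closure_induction'' with
        | one => exact ⟨by simp, fun v hv => by simpa using hv⟩
        | mem g hg =>
          obtain ⟨q, hq, u, rfl⟩ := hg
          obtain ⟨hqk, hqT⟩ := Finset.mem_erase.mp hq
          obtain ⟨hqn, hqpos⟩ := hpos q hqT
          have hge : -f q ≤ -f k := by have := hmin q hqT; omega
          refine ⟨?_, fun v hv => by rw [S.th_x]; exact x_above hD hf hqn hqpos hge u hv⟩
          have h₁ : D.neg k ≠ q := by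
            intro h
            rw [← h, hf.neg k hkn] at hqpos
            omega
          have h₂ : D.neg k ≠ D.neg q := fun h => hqk (by rw [← hD.neg_neg q hqn, ← h, hD.neg_neg k hkn])
          rw [S.th_x, x_eq_xR D hqn, xR_gen D q u (hD.keys q hqn) hn h₁ h₂, add_sub_cancel_left]
          exact sumCol_mem_above hD hf hqn hn h₁ h₂ hqpos (by rw [hf.neg k hkn]) u
        | inv_mem g hg =>
          obtain ⟨q, hq, u, rfl⟩ := hg
          rw [← S.x_neg]
          obtain ⟨hqk, hqT⟩ := Finset.mem_erase.mp hq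
          obtain ⟨hqn, hqpos⟩ := hpos q hqT
          have hge : -f q ≤ -f k := by have := hmin q hqT; omega
          refine ⟨?_, fun v hv => by rw [S.th_x]; exact x_above hD hf hqn hqpos hge _ hv⟩
          have h₁ : D.neg k ≠ q := by
            intro h
            rw [← h, hf.neg k hkn] at hqpos
            omega
          have h₂ : D.neg k ≠ D.neg q := fun h => hqk (by rw [← hD.neg_neg q hqn, ← h, hD.neg_neg k hkn])
          rw [S.th_x, x_eq_xR D hqn, xR_gen D q (-u) (hD.keys q hqn) hn h₁ h₂, add_sub_cancel_left]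
          exact sumCol_mem_above hD hf hqn hn h₁ h₂ hqpos (by rw [hf.neg k hkn]) _
        | mul a b _ _ ha hb =>
          refine ⟨?_, fun v hv => by
            rw [map_mul, Units.val_mul, ← Matrix.mulVec_mulVec]; exact ha.2 _ (hb.2 v hv)⟩
          rw [map_mul, Units.val_mul, ← Matrix.mulVec_mulVec]
          have h := add_mem (ha.2 _ hb.1) ha.1
          rwa [Matrix.mulVec_sub, sub_add_sub_cancel] at h
      have hPg : P g' := hPall g' hg'
      obtain ⟨w, hw, hw'⟩ : ∃ w ∈ above D F f (-f k),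
          (S.th g' : Matrix D.Idx D.Idx F) *ᵥ ev D F (D.neg k) = ev D F (D.neg k) + w :=
        ⟨_, hPg.1, (add_sub_cancel _ _).symm⟩
      have heq : D.x F k t *ᵥ (ev D F (D.neg k) + w) = ev D F (D.neg k) := by
        have h := congrArg (fun M : GL D.Idx F => (M : Matrix D.Idx D.Idx F) *ᵥ ev D F (D.neg k)) hgh
        simpa [map_mul, S.th_x, ← Matrix.mulVec_mulVec, hw'] using h
      have ht : t = 0 := by
        rw [Matrix.mulVec_add] at heq
        have hx := above_inl (x_above hD hf hkn hkpos le_rfl t hw)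
        rw [x_eq_xR D hkn, xR_neg D k t hn (hD.neg_ne k hkn)] at heq
        rw [x_eq_xR D hkn] at hx
        have hcz : ∀ i : Fin D.rank, t * (((D.coroot.getD k #[]).getD i.val 0 : ℤ) : F) = 0 := by
          intro i
          have h := congrFun heq (Sum.inl i)
          simpa [ev, hv, hx i] using h
        obtain ⟨c, hc⟩ := hD.coroot_prim k hkn
        have hc' := congrArg (fun z : ℤ => (z : F)) hc
        simp only [Int.cast_sum, Int.cast_mul, Int.cast_one] at hc'
        calc t = t * 1 := (mul_one t).symm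
          _ = ∑ i, (c i : F) * (t * (((D.coroot.getD k #[]).getD i.val 0 : ℤ) : F)) := by
            rw [← hc', Finset.mul_sum]; exact Finset.sum_congr rfl fun i _ => by ring
          _ = 0 := Finset.sum_eq_zero fun i _ => by rw [hcz i, mul_zero]
      obtain rfl : t₁ = t₂ := sub_eq_zero.1 (ht'.symm.trans ht)
      obtain rfl := mul_left_cancel e'
      rfl
    rw [← Nat.card_congr (Equiv.ofBijective Φ ⟨hinj, hsurj⟩), Nat.card_prod,
      ih T' (by rw [hT', Finset.card_erase_of_mem hk, hT, Nat.add_sub_cancel])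
        (fun q hq => hpos q (Finset.mem_of_mem_erase hq))
        (fun r hr s hs hne τ hτ => hgt r (Finset.mem_of_mem_erase hr) s (Finset.mem_of_mem_erase hs) hne τ hτ),
      pow_succ']

/-- The root group system of the matrix group itself. -/
def matSys (D : ChevalleyDatum) (hD : Good D) (F : Type*) [Field F] : Sys D F (GL D.Idx F) where
  x := xg hD F
  th := MonoidHom.id _
  th_x := fun r t => coe_xg hD r t
  x_out := fun r t h => xg_out hD (Nat.not_lt.2 h) t
  add := fun r t u => by
    by_cases hr : r < D.nroots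
    · exact (xg_add hD hr t u).symm
    · simp [xg_out hD hr]
  comm := fun r s hr hs h₁ h₂ t u => Units.ext (by
    rw [Units.val_mul, Units.val_mul, Units.val_mul, coe_xg, coe_xg, hD.commutator hr hs h₁ h₂ t u]
    congr 1
    rw [ChevalleyDatum.wordMat, ← Units.coeHom_apply, map_list_prod, List.map_map]
    rfl)

theorem card_posFilter (hD : Good D) :
    2 * ((Finset.range D.nroots).filter fun r => D.IsPosRoot r).card = D.nroots := by
  obtain ⟨o, ho⟩ := hD.order
  set A := (Finset.range D.nroots).filter fun r => D.IsPosRoot r with hA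
  set B := (Finset.range D.nroots).filter fun r => ¬ D.IsPosRoot r with hB
  have h : A.card = B.card := by
    refine Finset.card_nbij' D.neg D.neg ?_ ?_ ?_ ?_
    · intro r hr
      simp only [hA, hB, Finset.coe_filter, Set.mem_setOf_eq, Finset.mem_range] at hr ⊢
      refine ⟨hD.neg_lt r hr.1, ?_⟩
      rw [ho.pos_iff _ (hD.neg_lt r hr.1), ho.neg r hr.1]
      have := (ho.pos_iff r hr.1).1 hr.2
      omega
    · intro r hr
      simp only [hA, hB, Finset.coe_filter, Set.mem_setOf_eq, Finset.mem_range] at hr ⊢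
      refine ⟨hD.neg_lt r hr.1, ?_⟩
      rw [ho.pos_iff _ (hD.neg_lt r hr.1), ho.neg r hr.1]
      have h1 := hr.2
      rw [ho.pos_iff r hr.1] at h1
      have := ho.ne_zero r hr.1
      omega
    · intro r hr
      exact hD.neg_neg r (by simp [hA] at hr; exact hr.1)
    · intro r hr
      exact hD.neg_neg r (by simp [hB] at hr; exact hr.1)
  have h2 : A.card + B.card = D.nroots :=
    (Finset.card_filter_add_card_filter_not _).trans (Finset.card_range _)
  omega

theorem card_posUnipotent (hD : Good D) :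
    Nat.card (D.posUnipotent F) = Nat.card F ^ (D.nroots / 2) := by
  obtain ⟨o, ho⟩ := hD.order
  set A := (Finset.range D.nroots).filter fun r => D.IsPosRoot r with hA
  have hmem : ∀ r, r ∈ A ↔ r < D.nroots ∧ 0 < o r := fun r => by
    simp only [hA, Finset.mem_filter, Finset.mem_range]
    exact and_congr_right fun hr => ho.pos_iff r hr
  have hlin : IsLin D o := ⟨ho.add, ho.neg⟩
  have e : D.posUnipotent F = (matSys D hD F).genBy (A : Set ℕ) := by
    rw [ChevalleyDatum.posUnipotent, Sys.genBy]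
    congr 1
    ext g
    constructor
    · rintro ⟨r, t, hr, hg⟩
      exact ⟨r, (hmem r).2 ⟨hr.1, (ho.pos_iff r hr.1).1 hr⟩, t, Units.ext hg⟩
    · rintro ⟨r, hr, t, rfl⟩
      obtain ⟨h1, h2⟩ := (hmem r).1 hr
      exact ⟨r, t, (ho.pos_iff r h1).2 h2, coe_xg hD r t⟩
  rw [e, card_genBy _ hD hlin _ _ rfl (fun q hq => (hmem q).1 hq)]
  · congr 1
    have := card_posFilter hD
    rw [← hA] at this
    omega
  · intro r hr s hs hne τ hτ
    obtain ⟨hr1, hr2⟩ := (hmem r).1 hr
    obtain ⟨hs1, hs2⟩ := (hmem s).1 hs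
    have h₂ : s ≠ D.neg r := by rintro rfl; rw [hlin.neg r hr1] at hs2; omega
    obtain ⟨h3, h4, h5, h6⟩ := hlin.commTerms hD hr1 hs1 hne h₂ hτ
    exact (hmem _).2 ⟨h3, by rw [h6]; positivity⟩

end Cfsg.Agent.ChevOrder
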