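import Cfsg.Agent.Lib.ChevSt.System
import Cfsg.Agent.Lib.ChevSt.ConjMat

/-!
# Triangularity of U and V, diagonality of H

From `Good D` and a height `o` (`OrdOK D o`):
* `up_of_mem_pos`, `down_of_mem_neg` : unitriangular for the height;
* `hMat_diag`, `isDiag_of_mem_diagonal`, `diag_conj_x` : H is diagonal and scales root elements;
* `diagonal_le_normalizer_pos`, `mem_borel_iff`;
* `borel_inf_neg`, `borel_inf_negBorel` : B ∩ V = 1 and B ∩ VH = H;
* `card_rootSubgroup`.
-/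

set_option autoImplicit false

namespace Cfsg.Agent.ChevOrder

open Cfsg.Lie Cfsg.Lie.ChevalleyDatum Cfsg.Agent.Chev Cfsg.Agent.ChevSt Matrix

variable {D : ChevalleyDatum} {F : Type*} [Field F]

/-- The height of a coordinate. -/
def key (f : ℕ → ℤ) : D.Idx → ℤ := Sum.elim (fun _ => 0) (fun u => f u.val)

/-- Off-diagonal entries only raise the height. -/
def Up (f : ℕ → ℤ) (M : Matrix D.Idx D.Idx F) : Prop :=
  ∀ a b, a ≠ b → key f a ≤ key f b → M a b = 0

/-- Unit diagonal. -/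
def UniDiag (M : Matrix D.Idx D.Idx F) : Prop := ∀ a, M a a = 1

/-- Diagonal. -/
def IsDiagM (M : Matrix D.Idx D.Idx F) : Prop := ∀ a b, a ≠ b → M a b = 0

theorem IsDiagM.up {M : Matrix D.Idx D.Idx F} (h : IsDiagM M) (f : ℕ → ℤ) : Up f M :=
  fun a b hab _ => h a b hab

theorem up_one (f : ℕ → ℤ) : Up f (1 : Matrix D.Idx D.Idx F) := fun _ _ hab _ => Matrix.one_apply_ne hab

theorem up_mul {f : ℕ → ℤ} {M N : Matrix D.Idx D.Idx F} (hM : Up f M) (hN : Up f N) :
    Up f (M * N) := by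
  intro a b hab hle
  rw [Matrix.mul_apply]
  refine Finset.sum_eq_zero fun c _ => ?_
  by_cases h₁ : a = c
  · subst h₁; rw [hN a b hab hle, mul_zero]
  · by_cases h₂ : key f a ≤ key f c
    · rw [hM a c h₁ h₂, zero_mul]
    · have h₃ : c ≠ b := by rintro rfl; exact h₂ hle
      rw [hN c b h₃ (by omega), mul_zero]

theorem mul_apply_diag_of_up {f : ℕ → ℤ} {M N : Matrix D.Idx D.Idx F} (hM : Up f M) (hN : Up f N)
    (a : D.Idx) : (M * N) a a = M a a * N a a := by
  rw [Matrix.mul_apply]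
  refine Finset.sum_eq_single a (fun c _ hc => ?_) (by simp)
  by_cases h₂ : key f a ≤ key f c
  · rw [hM a c hc.symm h₂, zero_mul]
  · rw [hN c a hc (by omega), mul_zero]

theorem eq_one_of_up_neg {f : ℕ → ℤ} {M : Matrix D.Idx D.Idx F} (h : Up f M)
    (h' : Up (fun q => -f q) M) (hd : UniDiag M) : M = 1 := by
  ext a b
  by_cases hab : a = b
  · subst hab; rw [hd, Matrix.one_apply_eq]
  · rw [Matrix.one_apply_ne hab]
    by_cases hle : key f a ≤ key f b
    · exact h a b hab hle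
    · refine h' a b hab ?_
      have e : ∀ c : D.Idx, key (fun q => -f q) c = -key f c := by rintro (i | u) <;> simp [key]
      rw [e, e]; omega

theorem up_x (hD : Good D) {f : ℕ → ℤ} (hf : IsLin D f) {r : ℕ} (hr : r < D.nroots) (hfr : 0 < f r)
    (t : F) : Up f (D.x F r t) ∧ UniDiag (D.x F r t) := by
  have hne : D.neg r ≠ r := hD.neg_ne r hr
  have hchain : ∀ s : Fin D.nroots, s.val ≠ r → s.val ≠ D.neg r → ∀ u : Fin D.nroots,
      f u.val ≤ f s.val → D.chainCoeff r s.val u.val = [] := by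
    intro s h₁ h₂ u hu
    rw [chainCoeff_eq D (hD.keys r hr), List.map_eq_nil_iff, List.filter_eq_nil_iff]
    rintro ⟨⟨q, M⟩, i⟩ hq
    simp only [decide_eq_true_eq]
    rintro rfl
    rw [List.mem_zipIdx_iff_getElem?] at hq
    obtain ⟨-, -, -, h4⟩ := stepOK_getElem hD hf hr (hD.step r hr s.val s.isLt h₁ h₂) hq
    have : 0 < ((i + 1 : ℕ) : ℤ) * f r := Int.mul_pos (by positivity) hfr
    simp only at h4
    linarith
  rw [x_eq_xR D hr]
  constructor
  · intro a b hab hle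
    rcases a with i | u <;> rcases b with j | s <;> simp only [key, Sum.elim_inl, Sum.elim_inr] at hle <;>
      simp only [xR, Matrix.of_apply]
    · rw [if_neg fun h => hab (congrArg Sum.inl h)]
    · by_cases h₁ : s.val = r
      · rw [if_pos h₁]
      · rw [if_neg h₁]
        by_cases h₂ : s.val = D.neg r
        · exfalso; rw [h₂, hf.neg r hr] at hle; omega
        · rw [if_neg h₂]
    · rw [if_neg]
      intro h; rw [h] at hle; omega
    · have hus : u ≠ s := fun h => hab (congrArg Sum.inr h)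
      by_cases h₁ : s.val = r
      · rw [if_pos h₁, if_neg]
        intro h; exact hus (Fin.ext (h.trans h₁.symm))
      · rw [if_neg h₁]
        by_cases h₂ : s.val = D.neg r
        · rw [if_pos h₂, if_neg hus, if_neg]
          intro h; rw [h, h₂, hf.neg r hr] at hle; omega
        · rw [if_neg h₂, if_neg hus, hchain s h₁ h₂ u hle]; simp
  · intro a
    rcases a with i | u <;> simp only [xR, Matrix.of_apply]
    · simp
    · by_cases h₁ : u.val = r
      · rw [if_pos h₁, if_pos h₁]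
      · rw [if_neg h₁]
        by_cases h₂ : u.val = D.neg r
        · rw [if_pos h₂]; simp
        · rw [if_neg h₂, hchain u h₁ h₂ u le_rfl]; simp

/-- A root element as an element of GL. -/
def xu (hD : Good D) (r : ℕ) (t : F) : GL D.Idx F :=
  ⟨D.x F r t, D.x F r (-t), hD.x_mul_neg r t, by simpa using hD.x_mul_neg r (-t)⟩

theorem coe_xu (hD : Good D) (r : ℕ) (t : F) :
    (xu hD r t : Matrix D.Idx D.Idx F) = D.x F r t := rfl

theorem inv_x (hD : Good D) {g : GL D.Idx F} {r : ℕ} {t : F}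
    (hg : (g : Matrix D.Idx D.Idx F) = D.x F r t) :
    ((g⁻¹ : GL D.Idx F) : Matrix D.Idx D.Idx F) = D.x F r (-t) := by
  rw [show g = xu hD r t from Units.ext hg]; rfl

theorem up_of_mem_closure (hD : Good D) {f : ℕ → ℤ} (hf : IsLin D f) (S : Set (GL D.Idx F))
    (hS : ∀ g ∈ S, ∃ r t, r < D.nroots ∧ 0 < f r ∧ (g : Matrix D.Idx D.Idx F) = D.x F r t)
    {g : GL D.Idx F} (hg : g ∈ Subgroup.closure S) :
    Up f (g : Matrix D.Idx D.Idx F) ∧ UniDiag (g : Matrix D.Idx D.Idx F) := by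
  induction hg using Subgroup.closure_induction'' with
  | one => exact ⟨by rw [Units.val_one]; exact up_one f, fun a => by simp⟩
  | mem g hg =>
    obtain ⟨r, t, hr, hfr, he⟩ := hS g hg
    rw [he]; exact up_x hD hf hr hfr t
  | inv_mem g hg =>
    obtain ⟨r, t, hr, hfr, he⟩ := hS g hg
    rw [inv_x hD he]; exact up_x hD hf hr hfr _
  | mul g h _ _ hg hh =>
    refine ⟨by rw [Units.val_mul]; exact up_mul hg.1 hh.1, fun a => ?_⟩
    rw [Units.val_mul, mul_apply_diag_of_up hg.1 hh.1, hg.2, hh.2, mul_one]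

theorem OrdOK.isLin {o : ℕ → ℤ} (ho : OrdOK D o) : IsLin D o := ⟨ho.add, ho.neg⟩

theorem OrdOK.isLin_neg {o : ℕ → ℤ} (ho : OrdOK D o) : IsLin D (fun q => -o q) :=
  ⟨fun r hr s hs k h => by rw [ho.add r hr s hs k h]; ring, fun r hr => by rw [ho.neg r hr]⟩

theorem up_of_mem_pos (hD : Good D) {o : ℕ → ℤ} (ho : OrdOK D o) {g : GL D.Idx F}
    (hg : g ∈ D.posUnipotent F) :
    Up o (g : Matrix D.Idx D.Idx F) ∧ UniDiag (g : Matrix D.Idx D.Idx F) :=
  up_of_mem_closure hD (OrdOK.isLin ho)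
    {g : GL D.Idx F | ∃ (r : ℕ) (t : F), D.IsPosRoot r ∧ (g : Matrix D.Idx D.Idx F) = D.x F r t}
    (fun _ ⟨r, t, hr, he⟩ => ⟨r, t, hr.1, (ho.pos_iff r hr.1).1 hr, he⟩) hg

theorem down_of_mem_neg (hD : Good D) {o : ℕ → ℤ} (ho : OrdOK D o) {g : GL D.Idx F}
    (hg : g ∈ D.negUnipotent F) :
    Up (fun q => -o q) (g : Matrix D.Idx D.Idx F) ∧ UniDiag (g : Matrix D.Idx D.Idx F) :=
  up_of_mem_closure hD (OrdOK.isLin_neg ho)
    {g : GL D.Idx F | ∃ (r : ℕ) (t : F), D.IsNegRoot r ∧ (g : Matrix D.Idx D.Idx F) = D.x F r t}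
    (fun _ ⟨r, t, hr, he⟩ => ⟨r, t, hr.1, by have := (ho.neg_iff r hr.1).1 hr; omega, he⟩) hg

/-! ### The diagonal subgroup -/

theorem hMat_eq_mul (r : ℕ) (t : F) : D.hMat F r t = D.nMat F r t * D.nMat F r (-1) := by
  simp [ChevalleyDatum.hMat, ChevalleyDatum.hWord, ChevalleyDatum.nMat, ChevalleyDatum.wordMat]

theorem hMat_diag (hD : Good D) {r : ℕ} (hr : r < D.nroots) {t : F} (ht : t ≠ 0) :
    IsDiagM (D.hMat F r t) := by
  have h1 : (-1 : F) ≠ 0 := by simp
  intro a b hab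
  have key : D.hMat F r t a b = (D.hMat F r t *ᵥ Pi.single b 1) a := by
    rw [Matrix.mulVec_single_one]; rfl
  rw [key, hMat_eq_mul, ← Matrix.mulVec_mulVec]
  rcases b with i | s
  · have hhv : D.nMat F r t *ᵥ hv D F r = -hv D F r := by
      conv_lhs => rw [hv_eq, Matrix.mulVec_sum]
      simp only [Matrix.mulVec_smul, hD.n_inl hr ht, smul_sub, smul_smul, Finset.sum_sub_distrib,
        ← Finset.sum_smul, ← hv_eq]
      have : (∑ i : Fin D.rank, (((D.coroot.getD r #[]).getD i.val 0 : ℤ) : F) *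
          ((D.cartan i.val r : ℤ) : F)) = 2 := by
        rw [show (2 : F) = ((2 : ℤ) : F) by norm_num, ← hD.pairing_self r hr, pairing_eq_sum]
        push_cast; rfl
      rw [this, two_smul]; abel
    rw [hD.n_inl hr h1, Matrix.mulVec_sub, Matrix.mulVec_smul, hhv, hD.n_inl hr ht, smul_neg,
      sub_neg_eq_add, sub_add_cancel, Pi.single_apply, if_neg hab]
  · rw [← ev_of_lt D F s.isLt, hD.n_root hr s.isLt h1, Matrix.mulVec_smul,
      hD.n_root hr (refl_lt hD hr s.isLt) ht, refl_refl hD hr s.isLt, smul_smul, Pi.smul_apply,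
      ev_of_lt D F s.isLt, Pi.single_apply, if_neg hab, smul_zero]

theorem isDiagM_one : IsDiagM (1 : Matrix D.Idx D.Idx F) := fun _ _ h => Matrix.one_apply_ne h

theorem isDiagM_mul {M N : Matrix D.Idx D.Idx F} (hM : IsDiagM M) (hN : IsDiagM N) :
    IsDiagM (M * N) := by
  intro a b hab
  rw [Matrix.mul_apply]
  refine Finset.sum_eq_zero fun c _ => ?_
  by_cases h : a = c
  · subst h; rw [hN a b hab, mul_zero]
  · rw [hM a c h, zero_mul]

theorem isDiagM_inv {g : GL D.Idx F} (hg : IsDiagM (g : Matrix D.Idx D.Idx F)) :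
    IsDiagM ((g⁻¹ : GL D.Idx F) : Matrix D.Idx D.Idx F) := by
  have e : ∀ a b, (g : Matrix D.Idx D.Idx F) a a * ((g⁻¹ : GL D.Idx F) : Matrix D.Idx D.Idx F) a b =
      (1 : Matrix D.Idx D.Idx F) a b := by
    intro a b
    have := congrFun (congrFun (Units.mul_inv g) a) b
    rw [Matrix.mul_apply, Finset.sum_eq_single a (fun c _ hc => by rw [hg a c hc.symm, zero_mul])
      (fun h => absurd (Finset.mem_univ a) h)] at this
    exact this
  intro a b hab
  have ha : (g : Matrix D.Idx D.Idx F) a a ≠ 0 := by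
    intro h0
    have := e a a
    rw [h0, zero_mul, Matrix.one_apply_eq] at this
    exact zero_ne_one this
  have := e a b
  rw [Matrix.one_apply_ne hab] at this
  exact (mul_eq_zero.1 this).resolve_left ha

theorem isDiag_of_mem_diagonal (hD : Good D) {g : GL D.Idx F} (hg : g ∈ D.diagonalSubgroup F) :
    IsDiagM (g : Matrix D.Idx D.Idx F) := by
  induction hg using Subgroup.closure_induction with
  | mem g hg =>
    obtain ⟨r, t, hr, ht, he⟩ := hg
    rw [he]; exact hMat_diag hD hr ht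
  | one => rw [Units.val_one]; exact isDiagM_one
  | mul g h _ _ hg hh => rw [Units.val_mul]; exact isDiagM_mul hg hh
  | inv g _ hg => exact isDiagM_inv hg

theorem nSign_ne_zero (hD : Good D) {r s : ℕ} (hr : r < D.nroots) (hs : s < D.nroots) :
    (nSign D r s : F) ≠ 0 := by
  by_cases h : s = r ∨ s = D.neg r
  · rw [nSign, if_pos h]; simp
  · rw [not_or] at h
    rcases (hD.nword r hr s hs h.1 h.2).2.2.2.2.2.2.1 with e | e <;> rw [e] <;> simp

/-- H scales root elements. -/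
theorem diag_conj_x (hD : Good D) {g : GL D.Idx F} (hg : g ∈ D.diagonalSubgroup F) :
    ∀ s < D.nroots, ∃ c : F, c ≠ 0 ∧ ∀ u : F,
      (g : Matrix D.Idx D.Idx F) * D.x F s u = D.x F s (c * u) * (g : Matrix D.Idx D.Idx F) := by
  induction hg using Subgroup.closure_induction with
  | mem g hg =>
    obtain ⟨r, t, hr, ht, he⟩ := hg
    intro s hs
    have h1 : (-1 : F) ≠ 0 := by simp
    refine ⟨(nSign D r (Chev.refl D r s) : F) * t ^ (-D.pairing r (Chev.refl D r s)) *
      ((nSign D r s : F) * (-1) ^ (-D.pairing r s)), ?_, fun u => ?_⟩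
    · exact mul_ne_zero (mul_ne_zero (nSign_ne_zero hD hr (refl_lt hD hr hs)) (zpow_ne_zero _ ht))
        (mul_ne_zero (nSign_ne_zero hD hr hs) (zpow_ne_zero _ h1))
    rw [he, hMat_eq_mul, mul_assoc, nMat_conj hD hr hs h1, ← mul_assoc,
      nMat_conj hD hr (refl_lt hD hr hs) ht, refl_refl hD hr hs, mul_assoc, ← mul_assoc _ _ u]
  | one => exact fun s _ => ⟨1, one_ne_zero, fun u => by simp⟩
  | mul g h _ _ hg hh =>
    intro s hs
    obtain ⟨c, hc, hg⟩ := hg s hs
    obtain ⟨d, hd, hh⟩ := hh s hs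
    exact ⟨c * d, mul_ne_zero hc hd, fun u => by
      rw [Units.val_mul, mul_assoc, hh, ← mul_assoc, hg, mul_assoc, ← mul_assoc c d u]⟩
  | inv g _ hg =>
    intro s hs
    obtain ⟨c, hc, hg⟩ := hg s hs
    refine ⟨c⁻¹, inv_ne_zero hc, fun u => ?_⟩
    have h := hg (c⁻¹ * u)
    rw [← mul_assoc c, mul_inv_cancel₀ hc, one_mul] at h
    calc ((g⁻¹ : GL D.Idx F) : Matrix D.Idx D.Idx F) * D.x F s u
        = ((g⁻¹ : GL D.Idx F) : Matrix D.Idx D.Idx F) * (D.x F s u * g) *
          ((g⁻¹ : GL D.Idx F) : Matrix D.Idx D.Idx F) := by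
            rw [mul_assoc, mul_assoc (D.x F s u), Units.mul_inv, mul_one]
      _ = _ := by rw [← h, ← mul_assoc, Units.inv_mul, one_mul]

theorem diagonal_le_normalizer_closure (hD : Good D) (p : ℕ → Prop) (hp : ∀ r, p r → r < D.nroots) :
    D.diagonalSubgroup F ≤ Subgroup.normalizer ((Subgroup.closure
      {g : GL D.Idx F | ∃ (r : ℕ) (t : F), p r ∧ (g : Matrix D.Idx D.Idx F) = D.x F r t}) :
        Set (GL D.Idx F)) := by
  have key : ∀ h ∈ D.diagonalSubgroup F, ∀ g ∈ Subgroup.closure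
      {g : GL D.Idx F | ∃ (r : ℕ) (t : F), p r ∧ (g : Matrix D.Idx D.Idx F) = D.x F r t},
      h * g * h⁻¹ ∈ Subgroup.closure
      {g : GL D.Idx F | ∃ (r : ℕ) (t : F), p r ∧ (g : Matrix D.Idx D.Idx F) = D.x F r t} := by
    intro h hh g hg
    induction hg using Subgroup.closure_induction with
    | mem g hg =>
      obtain ⟨r, t, hr, he⟩ := hg
      obtain ⟨c, -, hc⟩ := diag_conj_x hD hh r (hp r hr)
      refine Subgroup.subset_closure ⟨r, c * t, hr, ?_⟩
      rw [Units.val_mul, Units.val_mul, he, hc, mul_assoc, Units.mul_inv, mul_one]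
    | one => rw [mul_one, mul_inv_cancel]; exact one_mem _
    | mul a b _ _ ha hb =>
      rw [show h * (a * b) * h⁻¹ = (h * a * h⁻¹) * (h * b * h⁻¹) by group]
      exact mul_mem ha hb
    | inv a _ ha =>
      rw [show h * a⁻¹ * h⁻¹ = (h * a * h⁻¹)⁻¹ by group]
      exact inv_mem ha
  intro h hh
  rw [Subgroup.mem_normalizer_iff]
  refine fun g => ⟨key h hh g, fun hg => ?_⟩
  simpa [mul_assoc] using key h⁻¹ (inv_mem hh) _ hg

theorem diagonal_le_normalizer_pos (hD : Good D) :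
    D.diagonalSubgroup F ≤ Subgroup.normalizer (D.posUnipotent F : Set (GL D.Idx F)) :=
  diagonal_le_normalizer_closure hD D.IsPosRoot fun _ hr => hr.1

theorem diagonal_le_normalizer_neg (hD : Good D) :
    D.diagonalSubgroup F ≤ Subgroup.normalizer (D.negUnipotent F : Set (GL D.Idx F)) :=
  diagonal_le_normalizer_closure hD D.IsNegRoot fun _ hr => hr.1

theorem diagonal_le_normalizer_root (hD : Good D) {r : ℕ} (hr : r < D.nroots) :
    D.diagonalSubgroup F ≤ Subgroup.normalizer (D.rootSubgroup F r : Set (GL D.Idx F)) := by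
  have h := diagonal_le_normalizer_closure (F := F) hD (fun q => q = r) fun q hq => hq ▸ hr
  have e : {g : GL D.Idx F | ∃ (q : ℕ) (t : F), q = r ∧ (g : Matrix D.Idx D.Idx F) = D.x F q t} =
      {g : GL D.Idx F | ∃ t : F, (g : Matrix D.Idx D.Idx F) = D.x F r t} := by
    ext g; simp
  rw [e] at h
  exact h

theorem exists_of_mem_sup {U H : Subgroup (GL D.Idx F)}
    (hH : H ≤ Subgroup.normalizer (U : Set (GL D.Idx F))) {g : GL D.Idx F} (hg : g ∈ U ⊔ H) :
    ∃ u ∈ U, ∃ h ∈ H, g = u * h := by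
  have h1 : g ∈ ((U ⊔ H : Subgroup (GL D.Idx F)) : Set (GL D.Idx F)) := hg
  rw [Subgroup.coe_mul_of_right_le_normalizer_left U H hH] at h1
  obtain ⟨u, hu, h, hh, rfl⟩ := Set.mem_mul.1 h1
  exact ⟨u, hu, h, hh, rfl⟩

theorem mem_borel_iff (hD : Good D) {g : GL D.Idx F} :
    g ∈ D.borelSubgroup F ↔ ∃ u ∈ D.posUnipotent F, ∃ h ∈ D.diagonalSubgroup F, g = u * h :=
  ⟨fun hg => exists_of_mem_sup (diagonal_le_normalizer_pos hD) hg,
    fun ⟨_, hu, _, hh, e⟩ => e ▸ Subgroup.mul_mem_sup hu hh⟩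

theorem posUnipotent_inf_diagonal (hD : Good D) :
    D.posUnipotent F ⊓ D.diagonalSubgroup F = ⊥ := by
  obtain ⟨o, ho⟩ := hD.order
  refine (Subgroup.eq_bot_iff_forall _).2 fun g hg => ?_
  obtain ⟨hU, hd⟩ := up_of_mem_pos hD ho hg.1
  exact Units.ext (eq_one_of_up_neg hU ((isDiag_of_mem_diagonal hD hg.2).up _) hd)

theorem borel_inf_neg (hD : Good D) : D.borelSubgroup F ⊓ D.negUnipotent F = ⊥ := by
  obtain ⟨o, ho⟩ := hD.order
  refine (Subgroup.eq_bot_iff_forall _).2 fun g hg => ?_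
  obtain ⟨u, hu, h, hh, rfl⟩ := (mem_borel_iff hD).1 hg.1
  obtain ⟨hV, hd⟩ := down_of_mem_neg hD ho hg.2
  obtain ⟨hU, -⟩ := up_of_mem_pos hD ho hu
  exact Units.ext (eq_one_of_up_neg
    (by rw [Units.val_mul]; exact up_mul hU ((isDiag_of_mem_diagonal hD hh).up _)) hV hd)

theorem borel_inf_negBorel (hD : Good D) :
    D.borelSubgroup F ⊓ (D.negUnipotent F ⊔ D.diagonalSubgroup F) = D.diagonalSubgroup F := by
  refine le_antisymm (fun g hg => ?_) (le_inf le_sup_right le_sup_right)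
  obtain ⟨v, hv, h, hh, rfl⟩ := exists_of_mem_sup (diagonal_le_normalizer_neg hD) hg.2
  have hvB : v ∈ D.borelSubgroup F ⊓ D.negUnipotent F := by
    refine ⟨?_, hv⟩
    have hb : h ∈ D.borelSubgroup F := Subgroup.mem_sup_right hh
    have := (D.borelSubgroup F).mul_mem (Subgroup.mem_inf.1 hg).1 ((D.borelSubgroup F).inv_mem hb)
    rwa [mul_inv_cancel_right] at this
  rw [borel_inf_neg hD, Subgroup.mem_bot] at hvB
  rw [hvB, one_mul]
  exact hh

/-- The element of a root subgroup. -/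
theorem mem_rootSubgroup_iff (hD : Good D) {r : ℕ} (hr : r < D.nroots) {g : GL D.Idx F} :
    g ∈ D.rootSubgroup F r ↔ ∃ t : F, g = xu hD r t := by
  constructor
  · intro hg
    induction hg using Subgroup.closure_induction with
    | mem g hg => obtain ⟨t, ht⟩ := hg; exact ⟨t, Units.ext ht⟩
    | one => exact ⟨0, Units.ext (hD.x_zero r).symm⟩
    | mul a b _ _ ha hb =>
      obtain ⟨t, rfl⟩ := ha
      obtain ⟨u, rfl⟩ := hb
      exact ⟨t + u, Units.ext (hD.x_add hr t u)⟩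
    | inv a _ ha =>
      obtain ⟨t, rfl⟩ := ha
      exact ⟨-t, Units.ext (inv_x hD (coe_xu hD r t))⟩
  · rintro ⟨t, rfl⟩
    exact Subgroup.subset_closure ⟨t, rfl⟩

theorem xu_injective (hD : Good D) {r : ℕ} (hr : r < D.nroots) :
    Function.Injective (xu (F := F) hD r) := by
  intro t u h
  obtain ⟨c, hc⟩ := hD.coroot_prim r hr
  have h' : D.x F r t *ᵥ ev D F (D.neg r) = D.x F r u *ᵥ ev D F (D.neg r) :=
    congrArg (fun g : GL D.Idx F => (g : Matrix D.Idx D.Idx F) *ᵥ ev D F (D.neg r)) h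
  rw [x_eq_xR D hr, x_eq_xR D hr, xR_neg D r t (hD.neg_lt r hr) (hD.neg_ne r hr),
    xR_neg D r u (hD.neg_lt r hr) (hD.neg_ne r hr)] at h'
  have hi : ∀ i : Fin D.rank, (t - u) * (((D.coroot.getD r #[]).getD i.val 0 : ℤ) : F) = 0 := by
    intro i
    have e := congrFun h' (Sum.inl i)
    simp only [Pi.add_apply, Pi.sub_apply, Pi.smul_apply, hv, ev, Sum.elim_inl, smul_eq_mul,
      mul_zero, sub_zero, zero_add] at e
    rw [sub_mul, e, sub_self]
  have hone : (t - u) * ((∑ i, c i * (D.coroot.getD r #[]).getD i.val 0 : ℤ) : F) = 0 := by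
    rw [Int.cast_sum, Finset.mul_sum]
    refine Finset.sum_eq_zero fun i _ => ?_
    rw [Int.cast_mul, mul_left_comm, hi, mul_zero]
  rw [hc, Int.cast_one, mul_one, sub_eq_zero] at hone
  exact hone

theorem card_rootSubgroup (hD : Good D) {r : ℕ} (hr : r < D.nroots) :
    Nat.card (D.rootSubgroup F r) = Nat.card F :=
  (Nat.card_congr (Equiv.ofBijective
    (fun t => (⟨xu hD r t, (mem_rootSubgroup_iff hD hr).2 ⟨t, rfl⟩⟩ : D.rootSubgroup F r))
    ⟨fun _ _ h => xu_injective hD hr (congrArg Subtype.val h), fun ⟨g, hg⟩ => by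
      obtain ⟨t, rfl⟩ := (mem_rootSubgroup_iff hD hr).1 hg
      exact ⟨t, rfl⟩⟩)).symm

end Cfsg.Agent.ChevOrder
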