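import Cfsg.Agent.Lib.BN.Bruhat

/-!
# Counting in a finite group with a (B,N)-pair

`cell P w` is the image of `B w B` in `G ⧸ B`.
* `card_cell_one`, `card_cell_sigma`, `card_cell_mul`
* `card_cell_wprod`, `card_eq_sum_cells` : arbitrary indices
* `card_eq_sum` : if `[B : B ∩ sBs⁻¹] = q` for all `s` then `|G| = |B| * ∑_w q ^ len w`.
-/

set_option autoImplicit false

namespace Cfsg.Agent.ChevOrder

open Cfsg.Agent.BN
open scoped Pointwise

variable {G : Type*} [Group G] (P : Cfsg.BNPair G)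

/-- The Bruhat cell in `G ⧸ B`. -/
def cell (w : Weyl P) : Set (G ⧸ P.B) := (QuotientGroup.mk : G → G ⧸ P.B) '' C P w

theorem mk_mem_cell_iff {w : Weyl P} {g : G} : (g : G ⧸ P.B) ∈ cell P w ↔ g ∈ C P w := by
  refine ⟨?_, fun h => ⟨g, h, rfl⟩⟩
  rintro ⟨x, hx, hxg⟩
  have h := QuotientGroup.eq.1 hxg
  simpa using mul_mem_C_right P hx h

theorem out_mem_C {w : Weyl P} {a : G ⧸ P.B} (ha : a ∈ cell P w) : a.out ∈ C P w := by
  rw [← mk_mem_cell_iff, QuotientGroup.out_eq']
  exact ha

theorem card_cell_one : Nat.card (cell P (1 : Weyl P)) = 1 := by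
  rw [Nat.card_eq_one_iff_exists]
  refine ⟨⟨((1 : G) : G ⧸ P.B), (mk_mem_cell_iff P).2 ((mem_C_one_iff P).2 (one_mem _))⟩, ?_⟩
  rintro ⟨a, ha⟩
  induction a using QuotientGroup.induction_on with | _ g =>
  refine Subtype.ext (QuotientGroup.eq.2 ?_)
  have := (mem_C_one_iff P).1 ((mk_mem_cell_iff P).1 ha)
  simpa using this

theorem card_cell_sigma (s : P.S) :
    Nat.card (cell P (BN.sigma P s)) = (P.B.map (MulAut.conj (s : G)).toMonoidHom).relIndex P.B := by
  rw [Subgroup.relIndex, Subgroup.index]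
  have hcell : cell P (BN.sigma P s) = MulAction.orbit P.B ((s : G) : G ⧸ P.B) := by
    ext a
    induction a using QuotientGroup.induction_on with | _ g =>
    rw [mk_mem_cell_iff, MulAction.mem_orbit_iff]
    constructor
    · intro hg
      obtain ⟨b, hb, b', hb', rfl⟩ := (mem_C_mk P).1 hg
      refine ⟨⟨b, hb⟩, ?_⟩
      change ((b * s : G) : G ⧸ P.B) = _
      refine QuotientGroup.eq.2 ?_
      have e : (b * (s : G))⁻¹ * (b * (s : G) * b') = b' := by group
      rwa [e]
    · rintro ⟨⟨b, hb⟩, hbg⟩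
      have h := QuotientGroup.eq.1 (show ((b * s : G) : G ⧸ P.B) = g from hbg)
      have : g = (b * s) * ((b * s)⁻¹ * g) := by group
      rw [this]
      exact mul_mem_C_right P (mul_mem_C_left P hb (self_mem_C P (P.subset s.2))) h
  have hstab : MulAction.stabilizer P.B ((s : G) : G ⧸ P.B) =
      (P.B.map (MulAut.conj (s : G)).toMonoidHom).subgroupOf P.B := by
    ext ⟨b, hb⟩
    rw [MulAction.mem_stabilizer_iff, Subgroup.mem_subgroupOf, Subgroup.mem_map]
    change ((b * s : G) : G ⧸ P.B) = _ ↔ _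
    rw [QuotientGroup.eq]
    constructor
    · intro h
      refine ⟨((b * s)⁻¹ * s)⁻¹, inv_mem h, ?_⟩
      simp [mul_assoc]
    · rintro ⟨c, hc, hcb⟩
      simp only [MulEquiv.coe_toMonoidHom, MulAut.conj_apply] at hcb
      have e : (b * s)⁻¹ * (s : G) = c⁻¹ := by rw [← hcb]; group
      rw [e]; exact inv_mem hc
  rw [hcell, ← hstab, Nat.card_congr (MulAction.orbitEquivQuotientStabilizer _ _)]

theorem card_cell_mul (s : P.S) {w : Weyl P} (h : len P w < len P (BN.sigma P s * w)) :
    Nat.card (cell P (BN.sigma P s * w)) = Nat.card (cell P (BN.sigma P s)) * Nat.card (cell P w) := by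
  rw [← Nat.card_prod]
  refine (Nat.card_congr (Equiv.ofBijective
    (fun p => ⟨((p.1.1.out * p.2.1.out : G) : G ⧸ P.B), (mk_mem_cell_iff P).2
      (mul_reduced P s h.le (out_mem_C P p.1.2) (out_mem_C P p.2.2))⟩) ⟨?_, ?_⟩)).symm
  · rintro ⟨⟨a, ha⟩, ⟨b, hb⟩⟩ ⟨⟨a', ha'⟩, ⟨b', hb'⟩⟩ heq
    have heq' := QuotientGroup.eq.1 (congrArg Subtype.val heq)
    simp only at heq'
    set c := (a.out * b.out)⁻¹ * (a'.out * b'.out) with hc
    have e : a'.out⁻¹ * a.out * b.out = b'.out * c⁻¹ := by rw [hc]; group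
    have hw : b'.out * c⁻¹ ∈ C P w := mul_mem_C_right P (out_mem_C P hb') (inv_mem heq')
    have hz : a'.out⁻¹ * a.out ∈ C P (BN.sigma P s * BN.sigma P s) ∨
        a'.out⁻¹ * a.out ∈ C P (BN.sigma P s) :=
      mul_left_simple P s (by simpa [sigma_inv'] using inv_mem_C P (out_mem_C P ha'))
        (out_mem_C P ha)
    rcases hz with hz | hz
    · rw [sigma_sq, mem_C_one_iff] at hz
      obtain rfl : a' = a := by
        rw [← QuotientGroup.out_eq' a', ← QuotientGroup.out_eq' a]
        exact QuotientGroup.eq.2 hz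
      obtain rfl : b = b' := by
        rw [← QuotientGroup.out_eq' b, ← QuotientGroup.out_eq' b']
        refine QuotientGroup.eq.2 ?_
        have : b.out⁻¹ * b'.out = c := by rw [hc]; group
        rw [this]; exact heq'
      rfl
    · exfalso
      have h1 := mul_reduced P s h.le hz (out_mem_C P hb)
      rw [e] at h1
      have := C_unique P h1 hw
      simp only [this, lt_self_iff_false] at h
  · rintro ⟨a, ha⟩
    induction a using QuotientGroup.induction_on with | _ g =>
    obtain ⟨x, hx, y, hy, rfl⟩ := exists_mul_eq P ((mk_mem_cell_iff P).1 ha)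
    set a : G ⧸ P.B := (x : G ⧸ P.B)
    have hxB : a.out⁻¹ * x ∈ P.B := QuotientGroup.eq.1 (QuotientGroup.out_eq' a)
    set b : G ⧸ P.B := ((a.out⁻¹ * x * y : G) : G ⧸ P.B)
    refine ⟨(⟨a, (mk_mem_cell_iff P).2 hx⟩, ⟨b, (mk_mem_cell_iff P).2 (mul_mem_C_left P hxB hy)⟩),
      Subtype.ext (QuotientGroup.eq.2 ?_)⟩
    have h2 : b.out⁻¹ * (a.out⁻¹ * x * y) ∈ P.B := QuotientGroup.eq.1 (QuotientGroup.out_eq' b)
    have : (a.out * b.out)⁻¹ * (x * y) = b.out⁻¹ * (a.out⁻¹ * x * y) := by group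
    rw [this]; exact h2

/-- A cell is the product of the indices along any reduced word. -/
theorem card_cell_wprod : ∀ (l : List P.S), BN.IsReduced (BN.sigma P) l →
    Nat.card (cell P (wprod (BN.sigma P) l)) =
      (l.map fun s : P.S => (P.B.map (MulAut.conj (s : G)).toMonoidHom).relIndex P.B).prod
  | [], _ => by simpa using card_cell_one P
  | s :: l, h => by
    have hl : BN.IsReduced (BN.sigma P) l := h.tail (sigma_sq P) (closure_sigma P)
    unfold BN.IsReduced at h hl
    rw [wprod_cons, card_cell_mul P s (by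
        simp only [len, ← wprod_cons, hl, h, List.length_cons]; omega),
      card_cell_sigma, card_cell_wprod l hl, List.map_cons, List.prod_cons]

/-- The order of a finite group with a (B,N)-pair as a sum over its cells. -/
theorem card_eq_sum_cells [Finite G] [Fintype (Weyl P)] :
    Nat.card G = Nat.card P.B * ∑ w : Weyl P, Nat.card (cell P w) := by
  rw [← Subgroup.card_mul_index P.B, Subgroup.index]
  congr 1
  have e : (Σ w : Weyl P, cell P w) ≃ G ⧸ P.B := Equiv.ofBijective (fun p => p.2.1) ⟨?_, ?_⟩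
  · rw [← Nat.card_congr e, Nat.card_sigma]
  · rintro ⟨v, a, ha⟩ ⟨w, b, hb⟩ (rfl : a = b)
    induction a using QuotientGroup.induction_on with | _ g =>
    obtain rfl := C_unique P ((mk_mem_cell_iff P).1 ha) ((mk_mem_cell_iff P).1 hb)
    rfl
  · intro a
    induction a using QuotientGroup.induction_on with | _ g =>
    obtain ⟨w, hw⟩ := exists_mem_C P g
    exact ⟨⟨w, _, (mk_mem_cell_iff P).2 hw⟩, rfl⟩

theorem card_cell {q : ℕ}
    (hq : ∀ s ∈ P.S, (P.B.map (MulAut.conj s).toMonoidHom).relIndex P.B = q) (w : Weyl P) :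
    Nat.card (cell P w) = q ^ len P w := by
  obtain ⟨l, hl, rfl⟩ := BN.exists_isReduced (sigma_sq P) (closure_sigma P) w
  rw [card_cell_wprod P l hl, List.prod_eq_pow_card _ q (by
    intro x hx
    obtain ⟨s, -, rfl⟩ := List.mem_map.1 hx
    exact hq _ s.2), List.length_map]
  rw [show len P (wprod (BN.sigma P) l) = l.length from hl]

/-- The order of a finite group with a (B,N)-pair of uniform index. -/
theorem card_eq_sum [Finite G] [Fintype (Weyl P)] {q : ℕ}
    (hq : ∀ s ∈ P.S, (P.B.map (MulAut.conj s).toMonoidHom).relIndex P.B = q) :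
    Nat.card G = Nat.card P.B * ∑ w : Weyl P, q ^ len P w := by
  rw [card_eq_sum_cells P]
  congr 1
  exact Finset.sum_congr rfl fun w _ => card_cell P hq w

end Cfsg.Agent.ChevOrder
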