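import Cfsg.Agent.Lib.ChevOrder.Index
import Cfsg.Agent.Lib.ChevOrder.BNCount
import Cfsg.Agent.Lib.Coxeter.Compute
import Cfsg.Agent.Lib.BN.Exchange

/-!
# Orders of Chevalley groups from a (B,N)-pair and N / H ≅ W

`card_group_eq_sum` : `|G| = |B| * ∑_{w ∈ W} q ^ ℓ(w)`, with the exchange condition for `W`.
`card_borel` : `|B| = |U| * |H|`.
-/

set_option autoImplicit false

namespace Cfsg.Agent.ChevOrder

open Cfsg.Lie Cfsg.Lie.ChevalleyDatum Cfsg.Agent.Chev Matrix Cfsg.Agent.BN

variable {D : ChevalleyDatum} {F : Type*} [Field F]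

theorem simple_injective {n : ℕ} {M : CoxeterMatrix (Fin n)}
    (hA : Coxeter.IsCartan M (Coxeter.cartanOf M)) :
    Function.Injective M.toCoxeterSystem.simple := by
  intro i j h
  by_contra hij
  have h' : Coxeter.refl (Coxeter.cartanOf M) i (fun k => if k = i then 1 else 0) i =
      Coxeter.refl (Coxeter.cartanOf M) j (fun k => if k = i then 1 else 0) i := by
    rw [← Coxeter.act_simple M.toCoxeterSystem hA, ← Coxeter.act_simple M.toCoxeterSystem hA, h]
  simp [Coxeter.refl_apply, hA.diag, Ne.symm hij] at h'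

theorem card_borel (hD : Good D) :
    Nat.card (D.borelSubgroup F) = Nat.card (D.posUnipotent F) * Nat.card (D.diagonalSubgroup F) := by
  rw [← Nat.card_prod]
  refine (Nat.card_congr (Equiv.ofBijective
    (fun p : D.posUnipotent F × D.diagonalSubgroup F =>
      (⟨p.1.1 * p.2.1, Subgroup.mul_mem_sup p.1.2 p.2.2⟩ : D.borelSubgroup F))
    ⟨?_, fun g => ?_⟩)).symm
  · rintro ⟨⟨u, hu⟩, ⟨h, hh⟩⟩ ⟨⟨u', hu'⟩, ⟨h', hh'⟩⟩ e
    have e' : u * h = u' * h' := congrArg Subtype.val e
    have hmem : u'⁻¹ * u ∈ D.posUnipotent F ⊓ D.diagonalSubgroup F := by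
      refine ⟨(D.posUnipotent F).mul_mem ((D.posUnipotent F).inv_mem hu') hu, ?_⟩
      have : u'⁻¹ * u = h' * h⁻¹ := by
        rw [eq_mul_inv_iff_mul_eq, mul_assoc, e', inv_mul_cancel_left]
      rw [this]; exact (D.diagonalSubgroup F).mul_mem hh' ((D.diagonalSubgroup F).inv_mem hh)
    rw [posUnipotent_inf_diagonal hD, Subgroup.mem_bot, inv_mul_eq_one] at hmem
    subst hmem
    obtain rfl := mul_left_cancel e'
    rfl
  · obtain ⟨u, hu, h, hh, e⟩ := (mem_borel_iff hD).1 g.2
    exact ⟨(⟨u, hu⟩, ⟨h, hh⟩), Subtype.ext e.symm⟩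

/-- The order of a Chevalley group as `|B| * ∑ q ^ ℓ(w)`. -/
theorem card_group_eq_sum [Fintype F] (hD : Good D) (hS : SimpleOK D)
    (hBG : D.borelSubgroup F ≤ D.group F) (hNG : D.monomialSubgroup F ≤ D.group F)
    (hBN : D.borelSubgroup F ⊓ D.monomialSubgroup F = D.diagonalSubgroup F)
    (P : Cfsg.BNPair ↥(D.group F))
    (hB : P.B = (D.borelSubgroup F).subgroupOf (D.group F))
    (hN : P.N = (D.monomialSubgroup F).subgroupOf (D.group F))
    (hPS : P.S = {m : ↥(D.group F) | ∃ i < D.rank,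
      ((m : GL D.Idx F) : Matrix D.Idx D.Idx F) = D.nMat F (D.simple i) 1})
    {n : ℕ} (hn : n = D.rank) (M : CoxeterMatrix (Fin n))
    (hA : Coxeter.IsCartan M (Coxeter.cartanOf M))
    (φ : ↥(D.monomialSubgroup F) →* M.Group) (hsurj : Function.Surjective φ)
    (hker : φ.ker = (D.diagonalSubgroup F).subgroupOf (D.monomialSubgroup F))
    (hsimple : ∀ (i : Fin n) (g : ↥(D.monomialSubgroup F)),
      ((g : GL D.Idx F) : Matrix D.Idx D.Idx F) = D.nMat F (D.simple i) 1 → φ g = M.simple i) :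
    ∃ _ : Fintype M.Group, HasExchange M.toCoxeterSystem.simple ∧
      Nat.card ↥(D.group F) = Nat.card (D.borelSubgroup F) *
        ∑ w : M.Group, Fintype.card F ^ wlen M.toCoxeterSystem.simple w := by
  classical
  have hmem : ∀ x : ↥(D.group F), x ∈ P.N ↔ (x : GL D.Idx F) ∈ D.monomialSubgroup F := fun x => by
    rw [hN, Subgroup.mem_subgroupOf]
  let ψ : P.N →* M.Group := φ.comp
    { toFun := fun x => ⟨((x : ↥(D.group F)) : GL D.Idx F), (hmem x).1 x.2⟩
      map_one' := rfl
      map_mul' := fun _ _ => rfl }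
  have hψsurj : Function.Surjective ψ := fun w => by
    obtain ⟨g, rfl⟩ := hsurj w
    exact ⟨⟨⟨(g : GL D.Idx F), hNG g.2⟩, (hmem _).2 g.2⟩, rfl⟩
  have hψker : ψ.ker = T P := by
    ext x
    have h1 : x ∈ ψ.ker ↔ ((x : ↥(D.group F)) : GL D.Idx F) ∈ D.diagonalSubgroup F := by
      have h0 : x ∈ ψ.ker ↔ (⟨_, (hmem x).1 x.2⟩ : ↥(D.monomialSubgroup F)) ∈ φ.ker := Iff.rfl
      rw [h0, hker, Subgroup.mem_subgroupOf]
    rw [h1, Subgroup.mem_subgroupOf, Subgroup.mem_inf, ← hBN, Subgroup.mem_inf, hB,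
      Subgroup.mem_subgroupOf]
    simp [(hmem x).1 x.2]
  let e : Weyl P ≃* M.Group :=
    (QuotientGroup.quotientMulEquivOfEq hψker.symm).trans
      (QuotientGroup.quotientKerEquivOfSurjective ψ hψsurj)
  have he : ∀ x : P.N, e (QuotientGroup.mk x) = ψ x := fun _ => rfl
  have hNmem : ∀ i : Fin n, nu (F := F) hD (D.simple i) 1 ∈ D.monomialSubgroup F := fun i =>
    Subgroup.mem_sup_right (Subgroup.subset_closure
      ⟨D.simple i, hD.simple_lt i (hn ▸ i.isLt), coe_nu hD _ _⟩)
  let ι : Fin n → P.S := fun i => ⟨⟨nu (F := F) hD (D.simple i) 1, hNG (hNmem i)⟩, by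
    rw [hPS]; exact ⟨i, hn ▸ i.isLt, coe_nu hD _ _⟩⟩
  have hισ : ∀ i, e (BN.sigma P (ι i)) = M.toCoxeterSystem.simple i := by
    intro i
    rw [CoxeterMatrix.toCoxeterSystem_simple, BN.sigma, he]
    exact hsimple i _ (coe_nu hD _ _)
  have hιsurj : Function.Surjective ι := by
    rintro ⟨m, hm⟩
    have hm' := hm
    rw [hPS] at hm'
    obtain ⟨i, hi, hme⟩ := hm'
    exact ⟨⟨i, hn.symm ▸ hi⟩, Subtype.ext (Subtype.ext (Units.ext ((coe_nu hD _ _).trans hme.symm)))⟩
  set σ := M.toCoxeterSystem.simple with hσ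
  have hword : ∀ l : List (Fin n), e (wprod (BN.sigma P) (l.map ι)) = wprod σ l := by
    intro l
    induction l with
    | nil => exact map_one e
    | cons a l ih => rw [List.map_cons, wprod_cons, map_mul, hισ, ih, wprod_cons]
  have hlen : ∀ w : Weyl P, wlen σ (e w) = wlen (BN.sigma P) w := by
    intro w
    refine le_antisymm ?_ ?_
    · obtain ⟨l, hl, rfl⟩ := BN.exists_reduced (sigma_sq P) (closure_sigma P) w
      rw [← hl]
      have : (l.map (Function.surjInv hιsurj)).map ι = l := by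
        rw [List.map_map, show ι ∘ Function.surjInv hιsurj = id from
          funext (Function.surjInv_eq hιsurj), List.map_id]
      have h2 := hword (l.map (Function.surjInv hιsurj))
      rw [this] at h2
      exact (wlen_le' _ h2.symm).trans (by simp)
    · obtain ⟨l, hl, hle⟩ := BN.exists_reduced
        (fun s => M.toCoxeterSystem.simple_mul_simple_self s)
        M.toCoxeterSystem.subgroup_closure_range_simple (e w)
      rw [← hl]
      refine (wlen_le' (l.map ι) ?_).trans (by simp)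
      exact e.injective (by rw [hword, hle])
  have hex : HasExchange σ := by
    refine ⟨fun s => M.toCoxeterSystem.simple_mul_simple_self s,
      M.toCoxeterSystem.subgroup_closure_range_simple, simple_injective hA, fun l s hl hle => ?_⟩
    have hred : BN.IsReduced (BN.sigma P) (l.map ι) := by
      unfold BN.IsReduced at hl ⊢
      rw [← hlen, hword, hl, List.length_map]
    obtain ⟨i, hi, heq⟩ := (BN.hasExchange P).exch (l.map ι) (ι s) hred (by
      rw [← hlen, map_mul, hισ, hword, List.length_map]; exact hle)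
    refine ⟨i, by simpa using hi, ?_⟩
    have := congrArg e heq
    rw [map_mul, hισ, hword, List.eraseIdx_map, hword] at this
    exact this
  haveI : Finite (Weyl P) := inferInstance
  haveI : Finite M.Group := Finite.of_equiv _ e.toEquiv
  refine ⟨Fintype.ofFinite _, hex, ?_⟩
  haveI := Fintype.ofFinite (Weyl P)
  letI := Fintype.ofFinite M.Group
  have hq : ∀ s ∈ P.S, (P.B.map (MulAut.conj s).toMonoidHom).relIndex P.B = Fintype.card F := by
    intro s hs
    obtain ⟨i, hi⟩ := hιsurj ⟨s, hs⟩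
    obtain rfl : s = (ι i).1 := (congrArg Subtype.val hi).symm
    have hi' : (i : ℕ) < D.rank := hn ▸ i.isLt
    rw [← Subgroup.relIndex_map_map_of_injective _ _ (D.group F).subtype_injective,
      Subgroup.map_map, ← Nat.card_eq_fintype_card, ← relIndex_borel_conj hD hS hi']
    have hBmap : P.B.map (D.group F).subtype = D.borelSubgroup F := by
      rw [hB, Subgroup.map_subgroupOf_eq_of_le hBG]
    rw [show (D.group F).subtype.comp (MulAut.conj ((ι i).1 : ↥(D.group F))).toMonoidHom =
      ((MulAut.conj (nu (F := F) hD (D.simple i) 1)).toMonoidHom).comp (D.group F).subtype by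
        ext x; simp [ι], ← Subgroup.map_map, hBmap]
  rw [card_eq_sum P hq]
  congr 1
  · rw [hB]
    exact Nat.card_congr (Subgroup.subgroupOfEquivOfLe hBG).toEquiv
  · refine Fintype.sum_equiv e.toEquiv _ _ fun w => ?_
    show _ ^ len P w = _ ^ wlen σ (e w)
    rw [hlen]

end Cfsg.Agent.ChevOrder
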