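import Cfsg.Agent.Lib.ChevOrder.Index

/-!
# `SimpleOK` for the seven tabulated data

`simpleOK_of_mem`.
-/

set_option autoImplicit false

namespace Cfsg.Agent.ChevOrder

open Cfsg.Lie

theorem simpleOK_G2 : SimpleOK chevG2 := by decide +kernel
theorem simpleOK_B2 : SimpleOK chevB2 := by decide +kernel
theorem simpleOK_D4 : SimpleOK chevD4 := by decide +kernel
theorem simpleOK_F4 : SimpleOK chevF4 := by decide +kernel
theorem simpleOK_E6 : SimpleOK chevE6 := by decide +kernel
theorem simpleOK_E7 : SimpleOK chevE7 := by decide +kernel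
theorem simpleOK_E8 : SimpleOK chevE8 := by decide +kernel

theorem simpleOK_of_mem (D : ChevalleyDatum)
    (hD : D ∈ [chevG2, chevB2, chevD4, chevF4, chevE6, chevE7, chevE8]) : SimpleOK D := by
  simp only [List.mem_cons, List.not_mem_nil, or_false] at hD
  rcases hD with rfl | rfl | rfl | rfl | rfl | rfl | rfl
  exacts [simpleOK_G2, simpleOK_B2, simpleOK_D4, simpleOK_F4, simpleOK_E6, simpleOK_E7, simpleOK_E8]

end Cfsg.Agent.ChevOrder
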