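import Cfsg.Agent.Lib.ChevBN.Instance
import Cfsg.Agent.Lib.Coxeter.Compute

/-!
# `N / H` is the Coxeter group

`exists_weylHom` : a surjective hom `N →* M.Group` with kernel `H` sending `n_{αᵢ}` to `sᵢ`, given that the
Cartan matrices of the datum and of `M` agree (`CartanOK`).
-/

set_option autoImplicit false

namespace Cfsg.Agent.ChevOrder

open Cfsg.Lie Cfsg.Lie.ChevalleyDatum Cfsg.Agent.Chev Cfsg.Agent.ChevBN Cfsg.Agent.ChevSt Matrix

variable {D : ChevalleyDatum} {F : Type*} [Field F]

/-- The Cartan matrix of `M` is that of the datum. -/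
def CartanOK (D : ChevalleyDatum) (M : CoxeterMatrix (Fin D.rank)) : Bool :=
  ((List.finRange D.rank).all fun i => (List.finRange D.rank).all fun j =>
    decide (i = j) || [2, 3, 4, 6].contains (M i j)) &&
  ((List.finRange D.rank).all fun i => (List.finRange D.rank).all fun j =>
    decide (Coxeter.cartanOf M i j = D.cartan i.val (D.simple j.val)))

/-- Root elements of different roots are different. -/
theorem xg_eq_xg (hD : Good D) {r s : ℕ} (hr : r < D.nroots) (hs : s < D.nroots) {a b : F} (ha : a ≠ 0)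
    (h : xg hD F r a = xg hD F s b) : r = s := by
  by_contra hne
  have h1 := congrArg (fun g : GL D.Idx F => (g : Matrix D.Idx D.Idx F) *ᵥ ev D F (D.neg r)) h
  simp only [coe_xg, x_eq_xR D hr, x_eq_xR D hs,
    xR_neg D r a (hD.neg_lt r hr) (hD.neg_ne r hr)] at h1
  have hinl : ∀ i : Fin D.rank, a * (((D.coroot.getD r #[]).getD i.val 0 : ℤ) : F) = 0 := by
    intro i
    have h2 := congrFun h1 (Sum.inl i)
    by_cases h₁ : D.neg r = s
    · rw [h₁, xR_self D s b hs] at h2
      simpa [ev, hv] using h2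
    · have h₂ : D.neg r ≠ D.neg s := fun e => hne (by rw [← hD.neg_neg r hr, e, hD.neg_neg s hs])
      rw [xR_gen D s b (hD.keys s hs) (hD.neg_lt r hr) h₁ h₂] at h2
      simpa [ev, hv, sumCol_apply_inl] using h2
  obtain ⟨c, hc⟩ := hD.coroot_prim r hr
  have hc' := congrArg (fun z : ℤ => (z : F)) hc
  simp only [Int.cast_sum, Int.cast_mul, Int.cast_one] at hc'
  refine ha ?_
  calc a = a * 1 := (mul_one a).symm
    _ = ∑ i, (c i : F) * (a * (((D.coroot.getD r #[]).getD i.val 0 : ℤ) : F)) := by
      rw [← hc', Finset.mul_sum]; exact Finset.sum_congr rfl fun i _ => by ring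
    _ = 0 := Finset.sum_eq_zero fun i _ => by rw [hinl i, mul_zero]

variable {Md : List (List ℤ)} {d : ℤ} (hD : Good D) (hR : Roots D Md d)
include hD hR

/-- A word in `H` fixes every root. -/
theorem ww_eq_self {l : List (Fin D.rank)} (h : (chevRGD hD hR F).nw l ∈ D.diagonalSubgroup F)
    (r : Fin D.nroots) : (chevRGD hD hR F).ww l r = r := by
  set R := chevRGD hD hR F
  have e1 := R.map_conj_U l r
  have e2 : (R.U r).map (MulAut.conj (R.nw l)).toMonoidHom = R.U r := R.map_conj_H_U h r
  rw [e1] at e2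
  have hx : xg hD F (R.ww l r).val 1 ∈ R.U r := e2 ▸ xg_mem_rootSubgroup hD _ 1
  obtain ⟨b, hb⟩ := (mem_rootSubgroup hD _).1 hx
  exact Fin.ext (xg_eq_xg hD (R.ww l r).isLt r.isLt one_ne_zero hb)

theorem exists_weylHom (M : CoxeterMatrix (Fin D.rank)) (hM : CartanOK D M = true) :
    Coxeter.IsCartan M (Coxeter.cartanOf M) ∧
    ∃ φ : ↥(D.monomialSubgroup F) →* M.Group, Function.Surjective φ ∧
      φ.ker = (D.diagonalSubgroup F).subgroupOf (D.monomialSubgroup F) ∧
      ∀ (i : Fin D.rank) (g : ↥(D.monomialSubgroup F)),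
        ((g : GL D.Idx F) : Matrix D.Idx D.Idx F) = D.nMat F (D.simple i) 1 → φ g = M.simple i := by
  classical
  simp only [CartanOK, Bool.and_eq_true, List.all_eq_true, List.mem_finRange, forall_const,
    decide_eq_true_eq] at hM
  obtain ⟨hM1, hC⟩ := hM
  have hA : Coxeter.IsCartan M (Coxeter.cartanOf M) := Coxeter.isCartan_cartanOf fun i j hij => by
    simpa [hij] using hM1 i j
  refine ⟨hA, ?_⟩
  let A' : Fin D.rank → Fin D.rank → ℤ := fun i j => Coxeter.cartanOf M j i
  have hA' : Coxeter.IsCartan M A' := ⟨hA.diag, fun i j hij => by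
    have h := hA.off i j hij
    simp only [List.mem_cons, List.not_mem_nil, or_false, Prod.mk.injEq, A'] at h ⊢
    omega⟩
  set cs := M.toCoxeterSystem with hcs
  set R := chevRGD hD hR F with hR'
  let σ : List (Fin D.rank) → M.Group := fun l => cs.wordProd l
  let lam : ℕ → Fin D.rank → ℤ := fun q j => D.cartan j.val q
  have hact : ∀ (l : List (Fin D.rank)) (r : Fin D.nroots),
      Coxeter.act cs hA' (σ l) (lam r.val) = lam (R.ww l r).val := by
    intro l r
    induction l with
    | nil => simp only [σ, CoxeterSystem.wordProd_nil, Coxeter.act_one, RGD.RootData.ww_nil]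
    | cons i l ih =>
      show Coxeter.act cs hA' (cs.wordProd (i :: l)) (lam r.val) = lam (wN D i.val (R.ww l r).val)
      rw [CoxeterSystem.wordProd_cons, Coxeter.act_mul, ih, Coxeter.act_simple]
      funext j
      simp only [Coxeter.refl_apply, lam, A']
      rw [wN, (isLin_cartan hD j.isLt).refl hD (hD.simple_lt _ i.isLt) (R.ww l r).isLt,
        pairing_simple hD i.isLt, hC j i]
      ring
  have hlin : ∀ (l : List (Fin D.rank)) (c : Fin D.rank → ℤ) (v : Fin D.rank → Fin D.rank → ℤ),
      Coxeter.act cs hA' (σ l) (∑ k, c k • v k) = ∑ k, c k • Coxeter.act cs hA' (σ l) (v k) := by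
    intro l c v
    induction l with
    | nil => simp only [σ, CoxeterSystem.wordProd_nil, Coxeter.act_one]
    | cons i l ih =>
      simp only [σ] at ih ⊢
      simp only [CoxeterSystem.wordProd_cons, Coxeter.act_mul, ih, Coxeter.act_simple]
      funext j
      simp only [Coxeter.refl_apply, Finset.sum_apply, Pi.smul_apply, smul_eq_mul, mul_sub, Finset.mul_sum,
        Finset.sum_sub_distrib]
      congr 1
      exact Finset.sum_congr rfl fun k _ => by ring
  -- a word in H is trivial in W
  have hwd : ∀ l, R.nw l ∈ R.H → σ l = 1 := by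
    intro l hl
    rw [← Coxeter.act_eq_self_iff cs hA' (l := fun _ => d) (fun _ => hR.d_pos)]
    have e : (fun _ => d : Fin D.rank → ℤ) = ∑ k : Fin D.rank,
        (∑ j : Fin D.rank, entry Md k.val j.val) • lam (D.simple k.val) := by
      funext i
      simp only [Finset.sum_apply, Pi.smul_apply, smul_eq_mul, lam, Finset.sum_mul]
      rw [Finset.sum_comm, Finset.sum_eq_single i]
      · have h := hR.mul i.val i.isLt i.val i.isLt
        rw [if_pos rfl, ← List.sum_toFinset _ List.nodup_range, List.toFinset_range, Finset.sum_range] at h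
        exact h.symm.trans (Finset.sum_congr rfl fun k _ => mul_comm _ _)
      · intro j _ hj
        have h := hR.mul i.val i.isLt j.val j.isLt
        rw [if_neg (fun e => hj (Fin.ext e.symm)), ← List.sum_toFinset _ List.nodup_range, List.toFinset_range,
          Finset.sum_range] at h
        exact (Finset.sum_congr rfl fun k _ => mul_comm _ _).trans h
      · simp
    rw [e, hlin]
    refine Finset.sum_congr rfl fun k _ => ?_
    have hk : R.ww l (R.simple k) = R.simple k := ww_eq_self hD hR hl _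
    have := hact l (R.simple k)
    rw [hk] at this
    exact congrArg _ this
  have hrev : ∀ l, σ l.reverse = (σ l)⁻¹ := fun l => cs.wordProd_reverse l
  have happ : ∀ l l', σ (l ++ l') = σ l * σ l' := fun l l' => cs.wordProd_append l l'
  have hcongr : ∀ (l l' : List (Fin D.rank)), ∀ h ∈ R.H, ∀ h' ∈ R.H, h * R.nw l = h' * R.nw l' →
      σ l = σ l' := by
    intro l l' h hh h' hh' e
    obtain ⟨k, hk, ek⟩ := R.exists_nw_inv l
    have hmem : R.nw (l' ++ l.reverse) ∈ R.H := by
      have e1 : R.nw l.reverse = k⁻¹ * (R.nw l)⁻¹ := by rw [ek, inv_mul_cancel_left]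
      have e2 : R.nw l' = h'⁻¹ * h * R.nw l := by rw [mul_assoc, e, inv_mul_cancel_left]
      rw [RGD.RootData.nw_append, e1, e2,
        show h'⁻¹ * h * R.nw l * (k⁻¹ * (R.nw l)⁻¹) = h'⁻¹ * h * (R.nw l * k⁻¹ * (R.nw l)⁻¹) by group]
      exact mul_mem (mul_mem (inv_mem hh') hh) (R.nw_conj_H l (inv_mem hk))
    have := hwd _ hmem
    rw [happ, hrev, mul_inv_eq_one] at this
    exact this.symm
  have hN : ∀ g : ↥(D.monomialSubgroup F), ∃ h ∈ R.H, ∃ l, (g : GL D.Idx F) = h * R.nw l := fun g =>
    R.mem_N_iff.1 (by rw [chev_N hD hR]; exact g.2)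
  choose hh hhH hl heq using hN
  let φ : ↥(D.monomialSubgroup F) →* M.Group := MonoidHom.mk' (fun g => σ (hl g)) fun a b => by
    rw [← happ]
    refine hcongr _ _ (hh (a * b)) (hhH _) (hh a * (R.nw (hl a) * hh b * (R.nw (hl a))⁻¹))
      (mul_mem (hhH a) (R.nw_conj_H _ (hhH b))) ?_
    rw [← heq, RGD.RootData.nw_append, Subgroup.coe_mul, heq a, heq b]
    group
  have hφ : ∀ (g : ↥(D.monomialSubgroup F)) (l) (h : GL D.Idx F), h ∈ R.H → (g : GL D.Idx F) = h * R.nw l →
      φ g = σ l := fun g l h hm e => hcongr _ _ _ (hhH g) h hm ((heq g).symm.trans e)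
  have hmemN : ∀ l, R.nw l ∈ D.monomialSubgroup F := fun l => by
    rw [← chev_N hD hR]; exact R.nw_mem_N l
  refine ⟨φ, fun w => ?_, ?_, fun i g hg => ?_⟩
  · obtain ⟨l, rfl⟩ := cs.wordProd_surjective w
    exact ⟨⟨R.nw l, hmemN l⟩, hφ _ l 1 (one_mem _) (one_mul _).symm⟩
  · ext g
    rw [MonoidHom.mem_ker, Subgroup.mem_subgroupOf, hφ g (hl g) (hh g) (hhH g) (heq g)]
    constructor
    · intro h1
      have hpos : R.nw (hl g) ∈ R.H := R.mem_H_of_pos fun r hr => by
        have e := hact (hl g) r
        rw [h1, Coxeter.act_one] at e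
        have : (R.ww (hl g) r).val = r.val := by
          refine hR.root_ext (R.ww (hl g) r).isLt r.isLt fun k hk => ?_
          have e' : ∀ i < D.rank, D.cartan i (R.ww (hl g) r).val = D.cartan i r.val := fun i hi =>
            (congrFun e ⟨i, hi⟩).symm
          simp only [co]
          exact congrArg List.sum (List.map_congr_left fun i hi => by rw [e' i (List.mem_range.1 hi)])
        rwa [Fin.ext this]
      rw [heq g]
      exact mul_mem (hhH g) hpos
    · intro h1
      refine hwd _ ?_
      have : R.nw (hl g) = (hh g)⁻¹ * (g : GL D.Idx F) := by rw [heq g, inv_mul_cancel_left]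
      rw [this]
      exact mul_mem (inv_mem (hhH g)) h1
  · refine (hφ g [i] 1 (one_mem _) (Units.ext ?_)).trans ?_
    · rw [hg]
      show _ = (((1 : GL D.Idx F) * R.nw [i] : GL D.Idx F) : Matrix D.Idx D.Idx F)
      rw [one_mul, RGD.RootData.nw_cons, RGD.RootData.nw_nil, mul_one]
      exact (coe_ng hD _ _).symm
    · simp only [σ, CoxeterSystem.wordProd_singleton, hcs, CoxeterMatrix.toCoxeterSystem_simple]

end Cfsg.Agent.ChevOrder
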