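import Cfsg.Agent.Lib.ChevBN.Facts
import Cfsg.Agent.Lib.ChevBN.RootTables
import Cfsg.Agent.Lib.ChevOrder.Assembly
import Cfsg.Agent.Lib.ChevOrder.CardH
import Cfsg.Agent.Lib.ChevOrder.CardU
import Cfsg.Agent.Lib.ChevOrder.Weyl
import Cfsg.Agent.Lib.ChevOrder.SimpleTables
import Cfsg.Agent.Lib.Coxeter.PoincareTypes

/-!
# Orders of the seven Chevalley groups from `Good`

`card_order` and `card_G2`, ..., `card_E8`.
-/

set_option autoImplicit false

namespace Cfsg.Agent.ChevOrder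

open Cfsg.Lie Cfsg.Lie.ChevalleyDatum Cfsg.Agent.Chev Cfsg.Agent.ChevBN

theorem card_order {D : ChevalleyDatum} {F : Type*} [Field F] [Fintype F] (hD : Good D)
    {Md : List (List ℤ)} {d : ℤ} (hR : Roots D Md d) (hS : SimpleOK D)
    (M : CoxeterMatrix (Fin D.rank)) (hM : CartanOK D M = true)
    {P Pi Q Qi : List (List ℤ)} {e : List ℕ} (hT : TorusOK D P Pi Q Qi e = true) :
    ∃ _ : Fintype M.Group, BN.HasExchange M.toCoxeterSystem.simple ∧
      (∏ i : Fin D.rank, (Fintype.card F - 1).gcd (e.getD i.val 0)) * Nat.card ↥(D.group F) =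
        Fintype.card F ^ (D.nroots / 2) *
          ((Fintype.card F - 1) ^ D.rank *
            ∑ w : M.Group, Fintype.card F ^ BN.wlen M.toCoxeterSystem.simple w) := by
  obtain ⟨hA, φ, hsurj, hker, hsimple⟩ := exists_weylHom (F := F) hD hR M hM
  obtain ⟨P', hB, hN, hPS⟩ := exists_bnPair (F := F) hD hR
  have hNG : D.monomialSubgroup F ≤ D.group F := by
    rw [← chev_N hD hR, ← chev_G hD hR]
    exact RGD.RootData.N_le_G _
  have hBN : D.borelSubgroup F ⊓ D.monomialSubgroup F = D.diagonalSubgroup F := by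
    rw [← chev_B hD hR, ← chev_N hD hR]
    exact RGD.RootData.B_inf_N _
  obtain ⟨inst, hex, hcard⟩ := card_group_eq_sum hD hS (borel_le_group hD hR) hNG hBN P' hB hN hPS rfl M hA
    φ hsurj hker hsimple
  refine ⟨inst, hex, ?_⟩
  rw [hcard, card_borel hD, card_posUnipotent hD, Nat.card_eq_fintype_card,
    ← card_diagonal (F := F) hD hR hT]
  ring

variable {F : Type*} [Field F] [Fintype F] {q : ℕ} (hq : Fintype.card F = q)
include hq

theorem one_le_q : 1 ≤ q := hq ▸ Fintype.card_pos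

theorem card_G2 (hD : Good chevG2) :
    Nat.card ↥(chevG2.group F) = q ^ 6 * (q ^ 2 - 1) * (q ^ 6 - 1) := by
  obtain ⟨inst, hex, h⟩ := card_order (F := F) hD rootsG2 simpleOK_G2 CoxeterMatrix.G₂ (by decide +kernel) torus_G2
  rw [hq] at h
  letI : Fintype (CoxeterMatrix.G₂).Group := inst
  have hP := Coxeter.poincare_g2 hex q (one_le_q hq)
  have h' : (∏ i : Fin 2, (q - 1).gcd (([1, 1] : List ℕ).getD i.val 0)) * Nat.card ↥(chevG2.group F) =
      q ^ 6 * ((q - 1) ^ 2 *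
        ∑ w : (CoxeterMatrix.G₂).Group, q ^ BN.wlen (CoxeterMatrix.G₂).toCoxeterSystem.simple w) := h
  clear h
  rename' h' => h
  rw [hP] at h
  simp only [← mul_assoc] at h
  rw [← h]
  simp [Fin.prod_univ_succ, Nat.gcd_comm, pow_two]

theorem card_B2 (hD : Good chevB2) :
    Nat.gcd 2 (q - 1) * Nat.card ↥(chevB2.group F) = q ^ 4 * (q ^ 2 - 1) * (q ^ 4 - 1) := by
  obtain ⟨inst, hex, h⟩ := card_order (F := F) hD rootsB2 simpleOK_B2 (CoxeterMatrix.B 2) (by decide +kernel) torus_B2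
  rw [hq] at h
  letI : Fintype (CoxeterMatrix.B 2).Group := inst
  have hP := Coxeter.poincare_b2 hex q (one_le_q hq)
  have h' : (∏ i : Fin 2, (q - 1).gcd (([1, 2] : List ℕ).getD i.val 0)) * Nat.card ↥(chevB2.group F) =
      q ^ 4 * ((q - 1) ^ 2 *
        ∑ w : (CoxeterMatrix.B 2).Group, q ^ BN.wlen (CoxeterMatrix.B 2).toCoxeterSystem.simple w) := h
  clear h
  rename' h' => h
  rw [hP] at h
  simp only [← mul_assoc] at h
  rw [← h]
  simp [Fin.prod_univ_succ, Nat.gcd_comm, pow_two]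

theorem card_D4 (hD : Good chevD4) :
    Nat.gcd 2 (q - 1) ^ 2 * Nat.card ↥(chevD4.group F) = q ^ 12 * (q ^ 2 - 1) * (q ^ 4 - 1) * (q ^ 4 - 1) * (q ^ 6 - 1) := by
  obtain ⟨inst, hex, h⟩ := card_order (F := F) hD rootsD4 simpleOK_D4 Cfsg.Lie.coxeterD4 (by decide +kernel) torus_D4
  rw [hq] at h
  letI : Fintype (Cfsg.Lie.coxeterD4).Group := inst
  have hP := Coxeter.poincare_d4 hex q (one_le_q hq)
  have h' : (∏ i : Fin 4, (q - 1).gcd (([1, 1, 2, 2] : List ℕ).getD i.val 0)) * Nat.card ↥(chevD4.group F) =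
      q ^ 12 * ((q - 1) ^ 4 *
        ∑ w : (Cfsg.Lie.coxeterD4).Group, q ^ BN.wlen (Cfsg.Lie.coxeterD4).toCoxeterSystem.simple w) := h
  clear h
  rename' h' => h
  rw [hP] at h
  simp only [← mul_assoc] at h
  rw [← h]
  simp [Fin.prod_univ_succ, Nat.gcd_comm, pow_two]

theorem card_F4 (hD : Good chevF4) :
    Nat.card ↥(chevF4.group F) = q ^ 24 * (q ^ 2 - 1) * (q ^ 6 - 1) * (q ^ 8 - 1) * (q ^ 12 - 1) := by
  obtain ⟨inst, hex, h⟩ := card_order (F := F) hD rootsF4 simpleOK_F4 CoxeterMatrix.F₄ (by decide +kernel) torus_F4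
  rw [hq] at h
  letI : Fintype (CoxeterMatrix.F₄).Group := inst
  have hP := Coxeter.poincare_f4 hex q (one_le_q hq)
  have h' : (∏ i : Fin 4, (q - 1).gcd (([1, 1, 1, 1] : List ℕ).getD i.val 0)) * Nat.card ↥(chevF4.group F) =
      q ^ 24 * ((q - 1) ^ 4 *
        ∑ w : (CoxeterMatrix.F₄).Group, q ^ BN.wlen (CoxeterMatrix.F₄).toCoxeterSystem.simple w) := h
  clear h
  rename' h' => h
  rw [hP] at h
  simp only [← mul_assoc] at h
  rw [← h]
  simp [Fin.prod_univ_succ, Nat.gcd_comm, pow_two]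

theorem card_E6 (hD : Good chevE6) :
    Nat.gcd 3 (q - 1) * Nat.card ↥(chevE6.group F) = q ^ 36 * (q ^ 2 - 1) * (q ^ 5 - 1) * (q ^ 6 - 1) * (q ^ 8 - 1) * (q ^ 9 - 1) * (q ^ 12 - 1) := by
  obtain ⟨inst, hex, h⟩ := card_order (F := F) hD rootsE6 simpleOK_E6 CoxeterMatrix.E₆ (by decide +kernel) torus_E6
  rw [hq] at h
  letI : Fintype (CoxeterMatrix.E₆).Group := inst
  have hP := Coxeter.poincare_e6 hex q (one_le_q hq)
  have h' : (∏ i : Fin 6, (q - 1).gcd (([1, 1, 1, 1, 1, 3] : List ℕ).getD i.val 0)) * Nat.card ↥(chevE6.group F) =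
      q ^ 36 * ((q - 1) ^ 6 *
        ∑ w : (CoxeterMatrix.E₆).Group, q ^ BN.wlen (CoxeterMatrix.E₆).toCoxeterSystem.simple w) := h
  clear h
  rename' h' => h
  rw [hP] at h
  simp only [← mul_assoc] at h
  rw [← h]
  simp [Fin.prod_univ_succ, Nat.gcd_comm, pow_two]

theorem card_E7 (hD : Good chevE7) :
    Nat.gcd 2 (q - 1) * Nat.card ↥(chevE7.group F) = q ^ 63 * (q ^ 2 - 1) * (q ^ 6 - 1) * (q ^ 8 - 1) * (q ^ 10 - 1) * (q ^ 12 - 1) * (q ^ 14 - 1) * (q ^ 18 - 1) := by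
  obtain ⟨inst, hex, h⟩ := card_order (F := F) hD rootsE7 simpleOK_E7 CoxeterMatrix.E₇ (by decide +kernel) torus_E7
  rw [hq] at h
  letI : Fintype (CoxeterMatrix.E₇).Group := inst
  have hP := Coxeter.poincare_e7 hex q (one_le_q hq)
  have h' : (∏ i : Fin 7, (q - 1).gcd (([1, 1, 1, 1, 1, 1, 2] : List ℕ).getD i.val 0)) * Nat.card ↥(chevE7.group F) =
      q ^ 63 * ((q - 1) ^ 7 *
        ∑ w : (CoxeterMatrix.E₇).Group, q ^ BN.wlen (CoxeterMatrix.E₇).toCoxeterSystem.simple w) := h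
  clear h
  rename' h' => h
  rw [hP] at h
  simp only [← mul_assoc] at h
  rw [← h]
  simp [Fin.prod_univ_succ, Nat.gcd_comm, pow_two]

theorem card_E8 (hD : Good chevE8) :
    Nat.card ↥(chevE8.group F) = q ^ 120 * (q ^ 2 - 1) * (q ^ 8 - 1) * (q ^ 12 - 1) * (q ^ 14 - 1) * (q ^ 18 - 1) * (q ^ 20 - 1) * (q ^ 24 - 1) * (q ^ 30 - 1) := by
  obtain ⟨inst, hex, h⟩ := card_order (F := F) hD rootsE8 simpleOK_E8 CoxeterMatrix.E₈ (by decide +kernel) torus_E8
  rw [hq] at h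
  letI : Fintype (CoxeterMatrix.E₈).Group := inst
  have hP := Coxeter.poincare_e8 hex q (one_le_q hq)
  have h' : (∏ i : Fin 8, (q - 1).gcd (([1, 1, 1, 1, 1, 1, 1, 1] : List ℕ).getD i.val 0)) * Nat.card ↥(chevE8.group F) =
      q ^ 120 * ((q - 1) ^ 8 *
        ∑ w : (CoxeterMatrix.E₈).Group, q ^ BN.wlen (CoxeterMatrix.E₈).toCoxeterSystem.simple w) := h
  clear h
  rename' h' => h
  rw [hP] at h
  simp only [← mul_assoc] at h
  rw [← h]
  simp [Fin.prod_univ_succ, Nat.gcd_comm, pow_two]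

end Cfsg.Agent.ChevOrder
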