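import Cfsg.Agent.Lib.ChevOrder.Triangular

/-!
# Graph automorphisms by signed permutation matrices (one root length)

`GraphOK D rho pi eps` : table check that `e_r ↦ eps r • e_{pi r}`, `h_i ↦ h_{rho i}` is an
automorphism; `exists_graphAut` : the induced automorphism of the Chevalley group.
-/

set_option autoImplicit false

namespace Cfsg.Agent.ChevOrder

open Cfsg.Lie Cfsg.Lie.ChevalleyDatum Cfsg.Agent.Chev Matrix

/-- The table conditions for a graph automorphism. -/
def GraphOK (D : ChevalleyDatum) (rho pi : List ℕ) (eps : List ℤ) : Bool :=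
  decide (rho.length = D.rank) && decide (pi.length = D.nroots) && decide (eps.length = D.nroots) &&
  rho.all (fun i => decide (i < D.rank)) && pi.all (fun r => decide (r < D.nroots)) &&
  decide rho.Nodup && decide pi.Nodup && eps.all (fun e => decide (e = 1 ∨ e = -1)) &&
  (List.range D.rank).all (fun i =>
    decide (pi.getD (D.simple i) 0 = D.simple (rho.getD i 0) ∧
      eps.getD (D.simple i) 0 = 1 ∧ eps.getD (D.neg (D.simple i)) 0 = 1)) &&
  (List.range D.nroots).all (fun r =>
    decide (pi.getD (D.neg r) 0 = D.neg (pi.getD r 0) ∧ eps.getD (D.neg r) 0 = eps.getD r 0) &&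
    (List.range D.rank).all (fun i =>
      decide ((D.coroot.getD (pi.getD r 0) #[]).getD (rho.getD i 0) 0 = (D.coroot.getD r #[]).getD i 0 ∧
        D.cartan (rho.getD i 0) (pi.getD r 0) = D.cartan i r)) &&
    (List.range D.nroots).all (fun s =>
      match D.chainRoot r s 1 with
      | none => decide (D.chainRoot (pi.getD r 0) (pi.getD s 0) 1 = none)
      | some k => decide (k < D.nroots ∧
          D.chainRoot (pi.getD r 0) (pi.getD s 0) 1 = some (pi.getD k 0) ∧
          eps.getD r 0 * eps.getD s 0 * D.chainM (pi.getD r 0) (pi.getD s 0) 1 =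
            eps.getD k 0 * D.chainM r s 1)))

variable {D : ChevalleyDatum}

theorem exists_graphAut (hD : Good D) {rho pi : List ℕ} {eps : List ℤ}
    (h : GraphOK D rho pi eps = true) {F : Type*} [Field F] :
    ∃ α : ↥(D.group F) ≃* ↥(D.group F), ∀ (g : ↥(D.group F)) (i : ℕ) (t : F), i < D.rank →
      (((g : GL D.Idx F) : Matrix D.Idx D.Idx F) = D.x F (D.simple i) t →
        ((α g : GL D.Idx F) : Matrix D.Idx D.Idx F) = D.x F (D.simple (rho.getD i 0)) t) ∧
      (((g : GL D.Idx F) : Matrix D.Idx D.Idx F) = D.x F (D.neg (D.simple i)) t →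
        ((α g : GL D.Idx F) : Matrix D.Idx D.Idx F) =
          D.x F (D.neg (D.simple (rho.getD i 0))) t) := by
  simp only [GraphOK, Bool.and_eq_true, decide_eq_true_eq, List.all_eq_true, List.mem_range] at h
  obtain ⟨⟨⟨⟨⟨⟨⟨⟨⟨hrl, hpl⟩, hel⟩, hrlt⟩, hplt⟩, hrnd⟩, hpnd⟩, heps⟩, hsimple⟩, htab⟩ := h
  have hp : ∀ r < D.nroots, pi.getD r 0 < D.nroots := fun r hr => by
    rw [List.getD_eq_getElem _ _ (by omega)]; exact hplt _ (List.getElem_mem _)
  have hρ : ∀ i < D.rank, rho.getD i 0 < D.rank := fun i hi => by
    rw [List.getD_eq_getElem _ _ (by omega)]; exact hrlt _ (List.getElem_mem _)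
  let σ : D.Idx → D.Idx := Sum.map (fun i => ⟨rho.getD i.val 0, hρ i i.isLt⟩)
    (fun r => ⟨pi.getD r.val 0, hp r r.isLt⟩)
  have hinj : Function.Injective σ := by
    refine Function.Injective.sumMap (fun i j e => ?_) (fun i j e => ?_)
    · have e' := congrArg Fin.val e
      simp only [List.getD_eq_getElem _ _ (show i.val < rho.length by omega),
        List.getD_eq_getElem _ _ (show j.val < rho.length by omega)] at e'
      exact Fin.ext (hrnd.getElem_inj_iff.1 e')
    · have e' := congrArg Fin.val e
      simp only [List.getD_eq_getElem _ _ (show i.val < pi.length by omega),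
        List.getD_eq_getElem _ _ (show j.val < pi.length by omega)] at e'
      exact Fin.ext (hpnd.getElem_inj_iff.1 e')
  have hsurj : Function.Surjective σ := Finite.surjective_of_injective hinj
  let sg : D.Idx → ℤ := Sum.elim (fun _ => 1) (fun r => eps.getD r.val 0)
  have hsg : ∀ a, sg a * sg a = 1 := by
    rintro (i | r)
    · simp [sg]
    · have : eps.getD r.val 0 = 1 ∨ eps.getD r.val 0 = -1 := by
        rw [List.getD_eq_getElem _ _ (by omega)]; exact heps _ (List.getElem_mem _)
      rcases this with e | e <;> simp only [sg, Sum.elim_inr, e] <;> norm_num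
  let P : Matrix D.Idx D.Idx ℤ := Matrix.of fun a b => if a = σ b then sg b else 0
  have hPmul : ∀ (M : Matrix D.Idx D.Idx ℤ) a b, (P * M) (σ a) b = sg a * M a b := by
    intro M a b
    rw [Matrix.mul_apply, Finset.sum_eq_single a]
    · simp [P]
    · intro c _ hc
      simp only [P, Matrix.of_apply]
      rw [if_neg fun e => hc (hinj e).symm, zero_mul]
    · simp
  have hmulP : ∀ (M : Matrix D.Idx D.Idx ℤ) a b, (M * P) a b = M a (σ b) * sg b := by
    intro M a b
    rw [Matrix.mul_apply, Finset.sum_eq_single (σ b)]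
    · simp [P]
    · intro c _ hc; simp [P, hc]
    · simp
  have hconj : ∀ r, r < D.nroots →
      P * adE D ℤ r = eps.getD r 0 • (adE D ℤ (pi.getD r 0) * P) := by
    intro r hr
    obtain ⟨⟨⟨hπn, hεn⟩, hrank⟩, hroots⟩ := htab r hr
    ext a b
    obtain ⟨a, rfl⟩ := hsurj a
    rw [hPmul, Matrix.smul_apply, hmulP, smul_eq_mul]
    have hne : pi.getD r 0 ≠ D.neg (pi.getD r 0) := fun e => hD.neg_ne _ (hp r hr) e.symm
    simp only [adE, Matrix.of_apply]
    rcases b with i | s
    · simp only [σ, Sum.map_inl, colA, Pi.smul_apply, smul_eq_mul, sg, Sum.elim_inl,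
        (hrank i.val i.isLt).2, mul_one]
      rcases a with j | u
      · simp [ev]
      · simp only [ev, Sum.map_inr, Sum.elim_inr]
        by_cases hu : u.val = r
        · subst hu; simp
        · rw [if_neg hu, if_neg]
          · simp
          · intro e
            refine hu (congrArg Fin.val (Sum.inr_injective (@hinj (Sum.inr u) (Sum.inr ⟨r, hr⟩) ?_)))
            simp only [σ, Sum.map_inr]; exact congrArg Sum.inr (Fin.ext e)
    · have hpinj : ∀ x y : ℕ, x < D.nroots → y < D.nroots → pi.getD x 0 = pi.getD y 0 → x = y := by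
        intro x y hx hy e
        rw [List.getD_eq_getElem _ _ (by omega), List.getD_eq_getElem _ _ (by omega)] at e
        exact hpnd.getElem_inj_iff.1 e
      simp only [σ, Sum.map_inr, colA]
      by_cases h₁ : s.val = r
      · simp [h₁]
      · have h₁' : pi.getD s.val 0 ≠ pi.getD r 0 := fun e => h₁ (hpinj _ _ s.isLt hr e)
        rw [if_neg h₁, if_neg h₁']
        by_cases h₂ : s.val = D.neg r
        · have h₂' : pi.getD s.val 0 = D.neg (pi.getD r 0) := by rw [h₂, hπn]
          rw [if_pos h₂, if_pos h₂']
          rcases a with j | u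
          · have he : eps.getD r 0 * eps.getD r 0 = 1 := hsg (Sum.inr ⟨r, hr⟩)
            simp only [hv, Sum.map_inl, Sum.elim_inl, sg, Sum.elim_inr, (hrank j.val j.isLt).1,
              Int.cast_id, h₂, hεn, one_mul]
            linear_combination (-((D.coroot.getD r #[]).getD j.val 0)) * he
          · simp [hv]
        · have h₂' : pi.getD s.val 0 ≠ D.neg (pi.getD r 0) := by
            rw [← hπn]; exact fun e => h₂ (hpinj _ _ s.isLt (hD.neg_lt r hr) e)
          rw [if_neg h₂, if_neg h₂']
          have hrs := hroots s.val s.isLt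
          cases hk : D.chainRoot r s.val 1 with
          | none =>
            simp only [hk, decide_eq_true_eq] at hrs
            rw [hrs]; simp
          | some k =>
            simp only [hk, decide_eq_true_eq] at hrs
            obtain ⟨hklt, hk', hM⟩ := hrs
            rw [hk']
            rcases a with j | u
            · simp [ev]
            · simp only [Option.elim_some, Pi.smul_apply, smul_eq_mul, ev, Sum.elim_inr, Sum.map_inr,
                sg, Int.cast_id]
              by_cases hu : u.val = k
              · subst hu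
                simp only [if_true, mul_one]
                rw [← hM]; ring
              · rw [if_neg hu, if_neg fun e => hu (hpinj _ _ u.isLt hklt e)]
                ring
  -- the element of GL
  let Q : Matrix D.Idx D.Idx ℤ := Matrix.of fun a b => if b = σ a then sg a else 0
  have hPQ : P * Q = 1 := by
    ext a b
    obtain ⟨a, rfl⟩ := hsurj a
    rw [hPmul]
    by_cases e : σ a = b
    · subst e; simp [Q, hsg]
    · rw [Matrix.one_apply_ne e]
      simp only [Q, Matrix.of_apply]
      rw [if_neg fun e' => e e'.symm, mul_zero]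
  have hQP : Q * P = 1 := mul_eq_one_comm.1 hPQ
  let c : GL D.Idx F := ⟨P.map (Int.cast : ℤ → F), Q.map (Int.cast : ℤ → F),
    by rw [show (Int.cast : ℤ → F) = Int.castRingHom F from rfl, ← Matrix.map_mul, hPQ]; simp,
    by rw [show (Int.cast : ℤ → F) = Int.castRingHom F from rfl, ← Matrix.map_mul, hQP]; simp⟩
  have hc : ∀ r, r < D.nroots → ∀ t : F,
      c * xu hD r t * c⁻¹ = xu hD (pi.getD r 0) (((eps.getD r 0 : ℤ) : F) * t) := by
    intro r hr t
    rw [mul_inv_eq_iff_eq_mul]
    refine Units.ext ?_
    rw [Units.val_mul, Units.val_mul, coe_xu, coe_xu, x_eq_xR D hr, x_eq_xR D (hp r hr)]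
    exact conj_xR_of_conj_adE D hr (hp r hr) hD P _ (hconj r hr) t
  have hmap : (D.group F).map (MulAut.conj c).toMonoidHom = D.group F := by
    rw [ChevalleyDatum.group, MonoidHom.map_closure]
    refine le_antisymm ((Subgroup.closure_le _).2 ?_) ((Subgroup.closure_le _).2 ?_)
    · rintro _ ⟨g, ⟨r, t, hg⟩, rfl⟩
      obtain rfl : g = xu hD r.val t :=
        Units.ext (hg.trans (by rw [coe_xu, ChevalleyDatum.x, dif_pos r.isLt]))
      refine Subgroup.subset_closure ⟨⟨_, hp r r.isLt⟩, ((eps.getD r.val 0 : ℤ) : F) * t, ?_⟩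
      change ((c * xu hD r.val t * c⁻¹ : GL D.Idx F) : Matrix D.Idx D.Idx F) = _
      rw [hc r.val r.isLt, coe_xu, ChevalleyDatum.x, dif_pos (hp r r.isLt)]
    · rintro g ⟨r, t, hg⟩
      obtain ⟨b, hb⟩ := hsurj (Sum.inr r)
      rcases b with j | u
      · simp [σ] at hb
      · simp only [σ, Sum.map_inr] at hb
        have hb' : pi.getD u.val 0 = r.val := congrArg Fin.val (Sum.inr_injective hb)
        refine Subgroup.subset_closure ⟨xu hD u.val (((eps.getD u.val 0 : ℤ) : F) * t),
          ⟨u, _, by rw [coe_xu, ChevalleyDatum.x, dif_pos u.isLt]⟩, ?_⟩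
        change c * _ * c⁻¹ = g
        rw [hc u.val u.isLt, ← mul_assoc, ← Int.cast_mul,
          show eps.getD u.val 0 * eps.getD u.val 0 = 1 from hsg (Sum.inr u), Int.cast_one, one_mul, hb']
        exact Units.ext (by rw [coe_xu, hg, ChevalleyDatum.x, dif_pos r.isLt])
  refine ⟨((D.group F).equivMapOfInjective _ (MulAut.conj c).injective).trans
    (MulEquiv.subgroupCongr hmap), fun g i t hi => ?_⟩
  have hval : ∀ g' : ↥(D.group F), ((((D.group F).equivMapOfInjective _ (MulAut.conj c).injective).trans
      (MulEquiv.subgroupCongr hmap)) g' : GL D.Idx F) = c * (g' : GL D.Idx F) * c⁻¹ := fun _ => rfl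
  obtain ⟨h1, h2, h3⟩ := hsimple i hi
  have hs := hD.simple_lt i hi
  constructor
  · intro hg
    rw [hval, show (g : GL D.Idx F) = xu hD (D.simple i) t from Units.ext hg, hc _ hs, h1, h2,
      Int.cast_one, one_mul, coe_xu]
  · intro hg
    rw [hval, show (g : GL D.Idx F) = xu hD (D.neg (D.simple i)) t from Units.ext hg,
      hc _ (hD.neg_lt _ hs), (htab _ hs).1.1.1, h1, h3, Int.cast_one, one_mul, coe_xu]

end Cfsg.Agent.ChevOrder
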