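import Cfsg.Agent.Lib.ChevOrder.GraphAut

/-!
# Graph automorphism tables for E₆ and D₄

`graphOK_E6`, `graphOK_D4`, `graphOK_D4'` (generated data).
-/

set_option autoImplicit false

namespace Cfsg.Agent.ChevOrder

open Cfsg.Lie

theorem graphOK_E6 : GraphOK chevE6 [5, 1, 4, 3, 2, 0] [0, 1, 2, 5, 16, 3, 6, 17, 8, 19, 22, 11, 26, 30, 33, 35, 4, 7, 18, 9, 20, 23, 10, 21, 24, 25, 12, 27, 31, 34, 13, 28, 32, 14, 29, 15, 56, 42, 57, 39, 43, 58, 37, 40, 44, 59, 46, 47, 50, 61, 48, 51, 62, 53, 64, 67, 36, 38, 41, 45, 60, 49, 52, 63, 54, 65, 68, 55, 66, 69, 70, 71]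
    [1, 1, 1, 1, -1, 1, 1, -1, 1, -1, -1, 1, -1, 1, -1, 1, -1, -1, 1, -1, 1, 1, -1, 1, 1, 1, -1, 1, -1, 1, 1, -1, 1, -1, 1, 1, 1, 1, -1, 1, -1, 1, 1, -1, 1, -1, 1, 1, 1, -1, 1, 1, -1, 1, -1, -1, 1, -1, 1, -1, 1, -1, -1, 1, -1, 1, 1, -1, 1, 1, 1, 1] = true := by decide +kernel

theorem graphOK_D4 : GraphOK chevD4 [2, 1, 3, 0] [0, 1, 6, 2, 7, 10, 3, 8, 4, 9, 11, 5, 18, 12, 14, 19, 15, 20, 13, 16, 21, 17, 22, 23]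
    [1, 1, -1, 1, -1, 1, -1, 1, -1, 1, 1, 1, 1, 1, 1, -1, 1, -1, 1, -1, 1, -1, 1, 1] = true := by decide +kernel

theorem graphOK_D4' : GraphOK chevD4 [3, 1, 0, 2] [0, 1, 3, 6, 8, 11, 2, 4, 7, 9, 5, 10, 13, 18, 14, 16, 19, 21, 12, 15, 17, 20, 22, 23]
    [1, 1, 1, -1, -1, 1, -1, -1, 1, 1, 1, 1, 1, 1, 1, 1, -1, -1, 1, -1, -1, 1, 1, 1] = true := by decide +kernel

end Cfsg.Agent.ChevOrder
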