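/-
`Good chevB2`, by kernel evaluation of the table conditions (after helper92's `GoodG2`).
-/
import Cfsg.Agent.Lib.Chev.Good
import Cfsg.Prelude.Def_ChevB2

set_option autoImplicit false
set_option maxRecDepth 10000

namespace Cfsg.Agent.ChevOrder

open Cfsg.Lie Cfsg.Lie.ChevalleyDatum Cfsg.Agent.Chev

theorem ordOK_chevB2 : OrdOK chevB2 (fun r => [-258, -130, -128, -2, 2, 128, 130, 258].getD r 0) where
  mono := by decide +kernel
  add := by
    intro r hr s hs k hk
    have h : ∀ r < chevB2.nroots, ∀ s < chevB2.nroots, ∀ x ∈ (chevB2.chainRoot r s 1).toList,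
        [-258, -130, -128, -2, 2, 128, 130, 258].getD x (0 : ℤ) =
          [-258, -130, -128, -2, 2, 128, 130, 258].getD r 0 +
            [-258, -130, -128, -2, 2, 128, 130, 258].getD s 0 := by decide +kernel
    exact h r hr s hs k (by rw [hk]; simp)
  neg := by decide +kernel
  ne_zero := by decide +kernel
  pos_iff := by decide +kernel
  neg_iff := by decide +kernel

set_option maxHeartbeats 4000000 in
theorem good_chevB2 : Good chevB2 where
  neg_lt := by decide +kernel
  neg_ne := by decide +kernel
  neg_neg := by decide +kernel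
  keys := by unfold KeysNodup; decide +kernel
  step := by decide +kernel
  pairing_self := by decide +kernel
  cartan_neg := by decide +kernel
  coroot_neg := by decide +kernel
  cartan_add := by
    intro r hr s hs k hk
    have h : ∀ r < chevB2.nroots, ∀ s < chevB2.nroots, ∀ x ∈ (chevB2.chainRoot r s 1).toList,
        x < chevB2.nroots ∧ ∀ i < chevB2.rank, chevB2.cartan i x = chevB2.cartan i r + chevB2.cartan i s := by
      decide +kernel
    exact h r hr s hs k (by rw [hk]; simp)
  jac := by
    simp only [ad_apply]
    decide +kernel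
  comm := by decide +kernel
  nword := by decide +kernel
  simple_lt := by decide +kernel
  simple_coroot := by decide +kernel
  order := ⟨_, ordOK_chevB2⟩
  coroot_prim := by
    have h : ∀ r < chevB2.nroots, ∃ c ∈ ([![1, 0], ![-1, 0], ![0, 1], ![0, -1], ![1, -1], ![-1, 1], ![2, -1], ![-2, 1]] :
        List (Fin 2 → ℤ)), ∑ i : Fin 2, c i * (chevB2.coroot.getD r #[]).getD i.val 0 = 1 := by decide +kernel
    intro r hr
    obtain ⟨c, -, hc⟩ := h r hr
    exact ⟨c, hc⟩

end Cfsg.Agent.ChevOrder
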