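import Cfsg.Agent.Lib.ChevOrder.Triangular

/-!
# The index of B ∩ n_p B n_p⁻¹ in B is q

`SimpleOK D` : decidable table facts about the simple reflections.
`conj_simple_diagonal` : n_p normalises H; `relIndex_borel_conj` : the index is `#F`.
-/

set_option autoImplicit false

namespace Cfsg.Agent.ChevOrder

open Cfsg.Lie Cfsg.Lie.ChevalleyDatum Cfsg.Agent.Chev Cfsg.Agent.ChevSt Matrix

variable {D : ChevalleyDatum} {F : Type*} [Field F]

/-- Table facts about simple reflections. -/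
def SimpleOK (D : ChevalleyDatum) : Prop :=
  ∀ i < D.rank, D.IsPosRoot (D.simple i) ∧ D.IsNegRoot (D.neg (D.simple i)) ∧
    ∀ s < D.nroots,
      Chev.refl D (D.simple i) (D.neg s) = D.neg (Chev.refl D (D.simple i) s) ∧
      (D.IsPosRoot s → s ≠ D.simple i → D.IsPosRoot (Chev.refl D (D.simple i) s))

instance simpleOKDecidable (D : ChevalleyDatum) : Decidable (SimpleOK D) :=
  Nat.decidableBallLT D.rank fun i _ => D.IsPosRoot (D.simple i) ∧ D.IsNegRoot (D.neg (D.simple i)) ∧
    ∀ s < D.nroots,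
      Chev.refl D (D.simple i) (D.neg s) = D.neg (Chev.refl D (D.simple i) s) ∧
      (D.IsPosRoot s → s ≠ D.simple i → D.IsPosRoot (Chev.refl D (D.simple i) s))

/-- n_r and e_s, e_{-s} : equal signs. -/
theorem nSign_neg (hD : Good D) {r s : ℕ} (hr : r < D.nroots) (hs : s < D.nroots) :
    nSign D r (D.neg s) = nSign D r s := by
  by_cases h : s = r ∨ s = D.neg r
  · have h' : D.neg s = r ∨ D.neg s = D.neg r := by
      rcases h with rfl | rfl
      · exact Or.inr rfl
      · exact Or.inl (hD.neg_neg r hr)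
    rw [nSign, if_pos h', nSign, if_pos h]
  · have h' := not_or.1 h
    obtain ⟨-, -, -, -, -, -, hsig, -, hmul⟩ := hD.nword r hr s hs h'.1 h'.2
    rcases hsig with e | e <;> rw [e] at hmul ⊢ <;> omega

/-- The terms of the commutator of a positive simple root and another positive root. -/
theorem commTerms_pos (hD : Good D) {p s : ℕ} (hp : p < D.nroots) (hpp : D.IsPosRoot p)
    (hs : D.IsPosRoot s) (hsp : s ≠ p) {τ : ℕ × ℤ × ℕ × ℕ} (hτ : τ ∈ D.commTerms p s) :
    D.IsPosRoot τ.1 ∧ τ.1 ≠ p := by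
  obtain ⟨o, ho⟩ := hD.order
  have a := (ho.pos_iff p hp).1 hpp
  have b := (ho.pos_iff s hs.1).1 hs
  have hne : s ≠ D.neg p := by
    rintro rfl
    rw [ho.neg p hp] at b
    omega
  obtain ⟨h1, hi, hj, he⟩ := (OrdOK.isLin ho).commTerms hD hp hs.1 hsp hne hτ
  refine ⟨(ho.pos_iff _ h1).2 ?_, ?_⟩
  · rw [he]; positivity
  · rintro h
    rw [h] at he
    have h3 : (1 : ℤ) ≤ τ.2.2.1 := by exact_mod_cast hi
    have h4 : (1 : ℤ) ≤ τ.2.2.2 := by exact_mod_cast hj
    nlinarith

/-- n_r(t) as an element of GL. -/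
def nu (hD : Good D) (r : ℕ) (t : F) : GL D.Idx F := xu hD r t * xu hD (D.neg r) (-t⁻¹) * xu hD r t

theorem coe_nu (hD : Good D) (r : ℕ) (t : F) :
    (nu hD r t : Matrix D.Idx D.Idx F) = D.nMat F r t := by
  simp [nu, coe_xu, ChevalleyDatum.nMat, ChevalleyDatum.wordMat, ChevalleyDatum.nWord, mul_assoc]

theorem xu_inv (hD : Good D) (r : ℕ) (t : F) : (xu hD r t)⁻¹ = xu hD r (-t) :=
  Units.ext (inv_x hD (coe_xu hD r t))

theorem nu_inv (hD : Good D) (r : ℕ) (t : F) : (nu hD r t)⁻¹ = nu hD r (-t) := by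
  simp only [nu, _root_.mul_inv_rev, xu_inv, inv_neg, _root_.neg_neg, mul_assoc]

/-- Sign of n_r on e_s. -/
theorem nSign_cases (hD : Good D) {r s : ℕ} (hr : r < D.nroots) (hs : s < D.nroots) :
    nSign D r s = 1 ∨ nSign D r s = -1 := by
  by_cases h : s = r ∨ s = D.neg r
  · right; rw [nSign, if_pos h]
  · rw [not_or] at h
    exact (hD.nword r hr s hs h.1 h.2).2.2.2.2.2.2.1

theorem nu_conj_xu (hD : Good D) {p s : ℕ} (hp : p < D.nroots) (hs : s < D.nroots) (u : F) :
    nu hD p 1 * xu hD s u * (nu hD p 1)⁻¹ =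
      xu hD (Chev.refl D p s) ((nSign D p s : F) * u) := by
  rw [mul_inv_eq_iff_eq_mul]
  refine Units.ext ?_
  rw [Units.val_mul, Units.val_mul, coe_nu, coe_xu, coe_xu, nMat_conj hD hp hs one_ne_zero,
    _root_.one_zpow, mul_one]

theorem hMat_mem (hD : Good D) {r : ℕ} (hr : r < D.nroots) {t : F} (ht : t ≠ 0) :
    nu hD r t * nu hD r (-1) ∈ D.diagonalSubgroup F :=
  Subgroup.subset_closure ⟨r, t, hr, ht, by rw [Units.val_mul, coe_nu, coe_nu, hMat_eq_mul]⟩

theorem conj_simple_diagonal (hD : Good D) (hS : SimpleOK D) {i : ℕ} (hi : i < D.rank)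
    {g : GL D.Idx F} (hg : g ∈ D.diagonalSubgroup F) :
    nu hD (D.simple i) 1 * g * (nu hD (D.simple i) 1)⁻¹ ∈ D.diagonalSubgroup F := by
  have hp := hD.simple_lt i hi
  induction hg using Subgroup.closure_induction with
  | one => rw [mul_one, mul_inv_cancel]; exact one_mem _
  | mul a b _ _ ha hb =>
    rw [show nu hD (D.simple i) 1 * (a * b) * (nu hD (D.simple i) 1)⁻¹ =
      (nu hD (D.simple i) 1 * a * (nu hD (D.simple i) 1)⁻¹) *
      (nu hD (D.simple i) 1 * b * (nu hD (D.simple i) 1)⁻¹) by group]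
    exact mul_mem ha hb
  | inv a _ ha =>
    rw [show nu hD (D.simple i) 1 * a⁻¹ * (nu hD (D.simple i) 1)⁻¹ =
      (nu hD (D.simple i) 1 * a * (nu hD (D.simple i) 1)⁻¹)⁻¹ by group]
    exact inv_mem ha
  | mem g hg =>
    obtain ⟨r, t, hr, ht, he⟩ := hg
    obtain rfl : g = nu hD r t * nu hD r (-1) :=
      Units.ext (by rw [he, Units.val_mul, coe_nu, coe_nu, hMat_eq_mul])
    obtain ⟨hneg, -⟩ := (hS i hi).2.2 r hr
    have hsgn := nSign_neg hD hp hr
    set n := nu hD (D.simple i) (1 : F) with hn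
    set w := Chev.refl D (D.simple i) r with hw
    set ε : F := ((nSign D (D.simple i) r : ℤ) : F) with hε
    have hεinv : ε⁻¹ = ε := by
      rcases nSign_cases hD hp hr with e | e <;> rw [hε, e] <;> simp
    have hε0 : ε ≠ 0 := nSign_ne_zero hD hp hr
    have key : ∀ v : F, n * nu hD r v * n⁻¹ = nu hD w (ε * v) := by
      intro v
      calc n * nu hD r v * n⁻¹
          = (n * xu hD r v * n⁻¹) * (n * xu hD (D.neg r) (-v⁻¹) * n⁻¹) * (n * xu hD r v * n⁻¹) := by
            simp only [nu]; group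
        _ = _ := by
          rw [nu_conj_xu hD hp hr, nu_conj_xu hD hp (hD.neg_lt r hr), hneg, hsgn]
          simp only [nu, _root_.mul_inv_rev, hεinv, ← hε, ← hw]
          ring_nf
    have e : n * (nu hD r t * nu hD r (-1)) * n⁻¹ =
        (nu hD w (ε * t) * nu hD w (-1)) * (nu hD w ε * nu hD w (-1))⁻¹ := by
      rw [_root_.mul_inv_rev, nu_inv hD w ε, ← mul_assoc _ (nu hD w (-1))⁻¹, mul_inv_cancel_right,
        show n * (nu hD r t * nu hD r (-1)) * n⁻¹ = (n * nu hD r t * n⁻¹) * (n * nu hD r (-1) * n⁻¹)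
          by group, key, key, mul_neg, mul_one]
    rw [e]
    have hwlt : w < D.nroots := refl_lt hD hp hr
    exact mul_mem (hMat_mem hD hwlt (mul_ne_zero hε0 ht)) (inv_mem (hMat_mem hD hwlt hε0))

/-- The index is the field size. -/
theorem relIndex_borel_conj (hD : Good D) (hS : SimpleOK D) {i : ℕ} (hi : i < D.rank) :
    ((D.borelSubgroup F).map (MulAut.conj (nu (F := F) hD (D.simple i) 1)).toMonoidHom).relIndex
      (D.borelSubgroup F) = Nat.card F := by
  obtain ⟨hppos, hpneg, hS'⟩ := hS i hi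
  have hp := hD.simple_lt i hi
  set p := D.simple i with hpdef
  set n := nu (F := F) hD p 1 with hn
  set B := D.borelSubgroup F
  set K := B ⊓ B.map (MulAut.conj n).toMonoidHom with hK
  have hmemmap : ∀ g, g ∈ B.map (MulAut.conj n).toMonoidHom ↔ n⁻¹ * g * n ∈ B := by
    intro g
    rw [Subgroup.mem_map]
    constructor
    · rintro ⟨x, hx, rfl⟩
      simpa [mul_assoc] using hx
    · intro h
      exact ⟨_, h, by simp [mul_assoc]⟩
  have hposB : ∀ s (u : F), D.IsPosRoot s → xu hD s u ∈ B := fun s u hs =>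
    Subgroup.mem_sup_left (Subgroup.subset_closure ⟨s, u, hs, rfl⟩)
  -- U_p
  set Up := Subgroup.closure {g : GL D.Idx F | ∃ (s : ℕ) (t : F),
    (D.IsPosRoot s ∧ s ≠ p) ∧ (g : Matrix D.Idx D.Idx F) = D.x F s t} with hUp
  have hUpK : Up ≤ K := by
    rw [hUp, Subgroup.closure_le]
    rintro g ⟨s, t, ⟨hs, hsp⟩, he⟩
    obtain rfl : g = xu hD s t := Units.ext he
    refine ⟨hposB s t hs, (hmemmap _).2 ?_⟩
    obtain ⟨-, h3⟩ := hS' s hs.1
    have hw := h3 hs hsp
    have hne : (nSign D p (Chev.refl D p s) : F) ≠ 0 := nSign_ne_zero hD hp (refl_lt hD hp hs.1)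
    have h := nu_conj_xu hD hp (refl_lt hD hp hs.1) (((nSign D p (Chev.refl D p s) : ℤ) : F)⁻¹ * t)
    rw [refl_refl hD hp hs.1, ← mul_assoc, mul_inv_cancel₀ hne, one_mul] at h
    rw [← h, ← hn]
    simpa [mul_assoc] using hposB _ _ hw
  have hHK : D.diagonalSubgroup F ≤ K := by
    intro g hg
    refine ⟨Subgroup.mem_sup_right hg, (hmemmap g).2 (Subgroup.mem_sup_right ?_)⟩
    -- n⁻¹ = n * (n * n)⁻¹ and n * n is in H
    have hnn : n * n ∈ D.diagonalSubgroup F := by
      have h1 : nu hD p (1 : F) * nu hD p (-1) = 1 := by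
        rw [← nu_inv, mul_inv_cancel]
      have h2 := inv_mem (hMat_mem (F := F) hD hp (t := (-1 : F)) (by simp))
      rw [_root_.mul_inv_rev, nu_inv, _root_.neg_neg] at h2
      exact h2
    have h3 := conj_simple_diagonal hD hS hi
      (mul_mem (mul_mem (inv_mem hnn) hg) hnn)
    rw [← hpdef, ← hn] at h3
    simpa [mul_assoc] using h3
  have hXnorm : D.rootSubgroup F p ≤ Subgroup.normalizer (Up : Set (GL D.Idx F)) := by
    have key : ∀ (t : F), ∀ g ∈ Up, (xu hD p t)⁻¹ * g * xu hD p t ∈ Up := by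
      intro t g hg
      induction hg using Subgroup.closure_induction with
      | mem g hg =>
        obtain ⟨s, u, ⟨hs, hsp⟩, he⟩ := hg
        obtain rfl : g = xu hD s u := Units.ext he
        have hterms := fun τ (hτ : τ ∈ D.commTerms p s) => commTerms_pos hD hp hppos hs hsp hτ
        have hsne : s ≠ D.neg p := by
          rintro rfl
          obtain ⟨o, ho⟩ := hD.order
          have a := (ho.pos_iff _ (hD.neg_lt p hp)).1 hs
          rw [ho.neg p hp] at a
          have b := (ho.pos_iff _ hp).1 hppos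
          omega
        have e : (xu hD p t)⁻¹ * xu hD s u * xu hD p t =
            xu hD s u * ((D.commWord F p s t u).map fun c => xu hD c.1 c.2).prod := by
          rw [mul_assoc, inv_mul_eq_iff_eq_mul]
          refine Units.ext ?_
          simp only [Units.val_mul, coe_xu, hD.commutator hp hs.1 hsp hsne t u]
          rw [mul_assoc]
          congr 2
          rw [← Units.coeHom_apply, map_list_prod, List.map_map]
          rfl
        rw [e]
        refine mul_mem (Subgroup.subset_closure ⟨s, u, ⟨hs, hsp⟩, rfl⟩) (list_prod_mem fun x hx => ?_)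
        simp only [ChevalleyDatum.commWord, List.map_map, List.mem_map, Function.comp_apply] at hx
        obtain ⟨τ, hτ, rfl⟩ := hx
        exact Subgroup.subset_closure ⟨τ.1, _, hterms τ hτ, rfl⟩
      | one => rw [mul_one, inv_mul_cancel]; exact one_mem _
      | mul a b _ _ ha hb =>
        rw [show (xu hD p t)⁻¹ * (a * b) * xu hD p t =
          ((xu hD p t)⁻¹ * a * xu hD p t) * ((xu hD p t)⁻¹ * b * xu hD p t) by group]
        exact mul_mem ha hb
      | inv a _ ha =>
        rw [show (xu hD p t)⁻¹ * a⁻¹ * xu hD p t = ((xu hD p t)⁻¹ * a * xu hD p t)⁻¹ by group]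
        exact inv_mem ha
    intro x hx
    obtain ⟨t, rfl⟩ := (mem_rootSubgroup_iff hD hp).1 hx
    rw [Subgroup.mem_normalizer_iff]
    refine fun g => ⟨fun hg => ?_, fun hg => ?_⟩
    · have := key (-t) g hg
      rwa [← xu_inv, inv_inv] at this
    · simpa [mul_assoc] using key t _ hg
  have hdec : ∀ b ∈ B, ∃ t : F, ∃ k ∈ K, b = xu hD p t * k := by
    intro b hb
    obtain ⟨u, hu, h, hh, rfl⟩ := (mem_borel_iff hD).1 hb
    have hU : D.posUnipotent F ≤ D.rootSubgroup F p ⊔ Up := by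
      rw [ChevalleyDatum.posUnipotent, Subgroup.closure_le]
      rintro g ⟨s, t, hs, he⟩
      by_cases hsp : s = p
      · subst hsp; exact Subgroup.mem_sup_left (Subgroup.subset_closure ⟨t, he⟩)
      · exact Subgroup.mem_sup_right (Subgroup.subset_closure ⟨s, t, ⟨hs, hsp⟩, he⟩)
    have hu' : u ∈ ((D.rootSubgroup F p ⊔ Up : Subgroup (GL D.Idx F)) : Set (GL D.Idx F)) := hU hu
    rw [Subgroup.coe_mul_of_left_le_normalizer_right _ _ hXnorm] at hu'
    obtain ⟨x, hx, v, hv, rfl⟩ := Set.mem_mul.1 hu'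
    obtain ⟨t, rfl⟩ := (mem_rootSubgroup_iff hD hp).1 hx
    exact ⟨t, v * h, mul_mem (hUpK hv) (hHK hh), mul_assoc _ _ _⟩
  have htriv : ∀ t : F, xu hD p t ∈ K → t = 0 := by
    intro t ht
    have hne : (nSign D p (D.neg p) : F) ≠ 0 := nSign_ne_zero hD hp (hD.neg_lt p hp)
    have h := nu_conj_xu hD hp (hD.neg_lt p hp) (((nSign D p (D.neg p) : ℤ) : F)⁻¹ * t)
    have hr : Chev.refl D p (D.neg p) = p := by
      simp [Chev.refl, hD.neg_ne p hp]
    rw [hr, ← mul_assoc, mul_inv_cancel₀ hne, one_mul, ← hn] at h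
    have h2 := (hmemmap _).1 ht.2
    rw [← h] at h2
    have h3 : xu hD (D.neg p) (((nSign D p (D.neg p) : ℤ) : F)⁻¹ * t) ∈ B ⊓ D.negUnipotent F :=
      ⟨by simpa [mul_assoc] using h2, Subgroup.subset_closure ⟨_, _, hpneg, rfl⟩⟩
    rw [borel_inf_neg hD, Subgroup.mem_bot] at h3
    have h4 : xu hD (D.neg p) (((nSign D p (D.neg p) : ℤ) : F)⁻¹ * t) = xu hD (D.neg p) 0 :=
      h3.trans (Units.ext (hD.x_zero _).symm)
    simpa [hne] using xu_injective hD (hD.neg_lt p hp) h4
  rw [← Subgroup.inf_relIndex_right, inf_comm, ← hK, Subgroup.relIndex, Subgroup.index]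
  refine (Nat.card_congr (Equiv.ofBijective
    (fun t : F => QuotientGroup.mk (s := K.subgroupOf B) ⟨xu hD p t, hposB p t hppos⟩)
    ⟨fun t u h => ?_, fun q => ?_⟩)).symm
  · have h' := QuotientGroup.eq.1 h
    rw [Subgroup.mem_subgroupOf] at h'
    simp only [Subgroup.coe_mul, Subgroup.coe_inv, xu_inv] at h'
    have e : xu hD p (-t) * xu hD p u = xu hD p (-t + u) := Units.ext (hD.x_add hp (-t) u)
    rw [e] at h'
    have := htriv _ h'
    linear_combination -this
  · induction q using QuotientGroup.induction_on with | _ b =>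
    obtain ⟨t, k, hk, hb⟩ := hdec b b.2
    refine ⟨t, QuotientGroup.eq.2 ?_⟩
    rw [Subgroup.mem_subgroupOf]
    simpa [hb] using hk

end Cfsg.Agent.ChevOrder
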